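import Groth.Agent.Lib.RamFin10.Generic

/-!
# The flip of two ramification indices in characteristic `p`
-/

set_option autoImplicit false
set_option linter.all false
set_option backward.isDefEq.respectTransparency false

universe u

noncomputable section

open Polynomial W4c1limliniiii

namespace GrothLib.RamFin10

variable {k : Type u} [Field k] {p : ℕ} [Fact p.Prime] [CharP k p] {d n : ℕ}

/-- No member of the pencil vanishes at both points. -/
def SepAt (V : Submodule k k[X]) (a b : k) : Prop := ∀ s ∈ V, s.IsRoot a → s.IsRoot b → s = 0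

/-- The flip relation between pencils. -/
def FlipRel (p : ℕ) (a b : k) (ea eb : ℕ) (V V' : Submodule k k[X]) : Prop :=
  ∃ F0 G0 : k[X], V = Submodule.span k {(X - C a) ^ ea * F0, (X - C b) ^ eb * G0} ∧
    V' = Submodule.span k {(X - C b) ^ (p - eb) * F0, (X - C a) ^ (p - ea) * G0}

/-- The flipped indices. -/
def flipIdx (p : ℕ) (e : Fin n → ℕ) (i j : Fin n) : Fin n → ℕ :=
  Function.update (Function.update e i (p - e i)) j (p - e j)

theorem flipIdx_left (e : Fin n → ℕ) {i j : Fin n} (hij : i ≠ j) : flipIdx p e i j i = p - e i := by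
  rw [flipIdx, Function.update_of_ne hij, Function.update_self]

theorem flipIdx_right (e : Fin n → ℕ) (i j : Fin n) : flipIdx p e i j j = p - e j := Function.update_self ..

theorem flipIdx_other (e : Fin n → ℕ) {i j l : Fin n} (h1 : l ≠ i) (h2 : l ≠ j) : flipIdx p e i j l = e l := by
  rw [flipIdx, Function.update_of_ne h2, Function.update_of_ne h1]

theorem flipIdx_flipIdx (e : Fin n → ℕ) {i j : Fin n} (hij : i ≠ j) (hi : e i ≤ p) (hj : e j ≤ p) :
    flipIdx p (flipIdx p e i j) i j = e := by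
  funext l
  rcases eq_or_ne l j with rfl | hlj
  · rw [flipIdx_right, flipIdx_right]; omega
  rcases eq_or_ne l i with rfl | hli
  · rw [flipIdx_left _ hij, flipIdx_left _ hij]; omega
  · rw [flipIdx_other _ hli hlj, flipIdx_other _ hli hlj]

theorem admissible1_flipIdx {e : Fin n → ℕ} (he : Admissible1 p d e) (hlt : ∀ l, e l < p) {i j : Fin n}
    (hij : i ≠ j) (hid : e i ≤ d) :
    Admissible1 p (d + p - e i - e j) (flipIdx p e i j) := by
  have hsum : ∑ l, flipIdx p e i j l + (e i + e j) = (∑ l, e l) + ((p - e i) + (p - e j)) := by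
    have hF : ∀ f : Fin n → ℕ, ∑ l, f l = f i + f j + ∑ l ∈ (Finset.univ.erase i).erase j, f l := fun f => by
      rw [← Finset.add_sum_erase Finset.univ f (Finset.mem_univ i),
        ← Finset.add_sum_erase (Finset.univ.erase i) f (Finset.mem_erase.2 ⟨hij.symm, Finset.mem_univ j⟩)]
      ring
    rw [hF, hF e, flipIdx_left _ hij, flipIdx_right,
      Finset.sum_congr rfl fun l hl => flipIdx_other e (p := p) (Finset.mem_erase.1 (Finset.mem_erase.1 hl).2).1
        (Finset.mem_erase.1 hl).1]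
    ring
  have h1 := hlt i; have h2 := hlt j
  have hne : ∀ x, 0 < x → x < p → ¬ p ∣ x := fun x hx hxp hd => by have := Nat.le_of_dvd hx hd; omega
  have h5 := (he.1 i).1; have h6 := (he.1 j).1
  have hsum0 := he.2
  refine ⟨fun l => ?_, ?_⟩
  · rcases eq_or_ne l j with rfl | hlj
    · rw [flipIdx_right]; exact ⟨by omega, hne _ (by omega) (by omega)⟩
    rcases eq_or_ne l i with rfl | hli
    · rw [flipIdx_left _ hij]; exact ⟨by omega, hne _ (by omega) (by omega)⟩
    · rw [flipIdx_other _ hli hlj]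
      exact ⟨(he.1 l).1, (he.1 l).2⟩
  · omega

theorem pencil_indep {V : Submodule k k[X]} (h2 : Module.finrank k V = 2) {F G : k[X]}
    (h : V = Submodule.span k {F, G}) : LinearIndependent k ![F, G] := by
  rw [linearIndependent_iff_card_eq_finrank_span, Fintype.card_fin, Set.finrank]
  rw [Matrix.range_cons, Matrix.range_cons, Matrix.range_empty, Set.union_empty, Set.singleton_union, ← h, h2]

theorem finrank_pair {F G : k[X]} (h : wronskian F G ≠ 0) : Module.finrank k (Submodule.span k {F, G}) = 2 := by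
  have hli : LinearIndependent k ![F, G] := by
    rw [LinearIndependent.pair_iff]
    intro x y hxy
    have e1 : C x * wronskian F G = wronskian (x • F + y • G) G := by
      simp only [wronskian, smul_eq_C_mul, derivative_add, derivative_mul, derivative_C]; ring
    have e2 : C y * wronskian F G = wronskian F (x • F + y • G) := by
      simp only [wronskian, smul_eq_C_mul, derivative_add, derivative_mul, derivative_C]; ring
    simp only [hxy, wronskian_zero_left, wronskian_zero_right, mul_eq_zero, C_eq_zero, h, or_false] at e1 e2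
    exact ⟨e1, e2⟩
  have := finrank_span_eq_card hli
  rw [Matrix.range_cons, Matrix.range_cons, Matrix.range_empty, Set.union_empty, Set.singleton_union,
    Fintype.card_fin] at this
  exact this

theorem X_sub_C_pow_char (a l : k) : (X - C a) ^ p = C ((l - a) ^ p) + (X - C l) ^ p := by
  rw [map_pow, map_sub, ← add_pow_char]
  congr 1
  ring

theorem derivative_pow_char (a : k) : derivative ((X - C a) ^ p) = 0 := by
  rw [derivative_pow, CharP.cast_eq_zero (R := k) p]
  simp

/-- The flip of a pencil. -/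
theorem exists_flip {e : Fin n → ℕ} {P : Fin n → k} (hP : Function.Injective P) (he : Admissible1 p d e)
    (hlt : ∀ l, e l < p) {i j : Fin n} (hij : i ≠ j) {V : Submodule k k[X]} (hV : V ∈ ramMaps d P e)
    (hsep : SepAt V (P i) (P j)) :
    ∃ V' ∈ ramMaps (d + p - e i - e j) P (flipIdx p e i j), FlipRel p (P i) (P j) (e i) (e j) V V' := by
  obtain ⟨⟨hVle, hV2, ⟨sd, hsd, hsdd⟩, hbp⟩, hs, hram⟩ := hV
  haveI : Module.Finite k V := Module.finite_of_finrank_eq_succ hV2
  have hile := hlt i; have hjle := hlt j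
  have hall : ∀ l, e l ≤ d := fun l => by
    obtain ⟨s, hsV, hs0, hse⟩ := (hram l).1
    have h1 := natDegree_le_of_dvd ((le_rootMultiplicity_iff hs0).1 hse) hs0
    rw [natDegree_pow, natDegree_X_sub_C, mul_one] at h1
    exact h1.trans (natDegree_le_of_degree_le (mem_degreeLE.1 (hVle hsV)))
  have hid := hall i; have hjd := hall j
  have hi1 := (he.1 i).1; have hj1 := (he.1 j).1
  set a := P i with ha
  set b := P j with hb
  have hab : a ≠ b := fun h => hij (hP h)
  -- the two special members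
  have hex : ∀ l, ∃ Q : k[X], (X - C (P l)) ^ e l * Q ∈ V ∧ Q.eval (P l) ≠ 0 := fun l => by
    obtain ⟨⟨s, hsV, hs0, hse⟩, hmax⟩ := hram l
    obtain ⟨Q, hQ⟩ := (le_rootMultiplicity_iff hs0).1 hse
    refine ⟨Q, hQ ▸ hsV, fun h0 => ?_⟩
    have h1 : (X - C (P l)) ^ (e l + 1) ∣ s := by
      rw [hQ, pow_succ]; exact mul_dvd_mul_left _ (dvd_iff_isRoot.2 h0)
    have := (le_rootMultiplicity_iff hs0).2 h1
    have := hmax s hsV hs0
    omega
  obtain ⟨F0, hFV, hFa⟩ := hex i
  obtain ⟨G0, hGV, hGb⟩ := hex j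
  set F := (X - C a) ^ e i * F0 with hF
  set G := (X - C b) ^ e j * G0 with hG
  have hF0ne : F0 ≠ 0 := fun h => hFa (by rw [h, eval_zero])
  have hG0ne : G0 ≠ 0 := fun h => hGb (by rw [h, eval_zero])
  have hFne : F ≠ 0 := mul_ne_zero (pow_ne_zero _ (X_sub_C_ne_zero _)) hF0ne
  have hGne : G ≠ 0 := mul_ne_zero (pow_ne_zero _ (X_sub_C_ne_zero _)) hG0ne
  have hFb : F0.eval b ≠ 0 := fun h => hFne (hsep F hFV
    (by simp [hF, IsRoot, zero_pow (show e i ≠ 0 by omega)]) (by simp [hF, IsRoot, h]))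
  have hGa : G0.eval a ≠ 0 := fun h => hGne (hsep G hGV (by simp [hG, IsRoot, h])
    (by simp [hG, IsRoot, zero_pow (show e j ≠ 0 by omega)]))
  have hspan : V = Submodule.span k {F, G} := by
    have hli : LinearIndependent k ![F, G] := by
      rw [LinearIndependent.pair_iff]
      intro x y hxy
      have h1 := congrArg (eval a) hxy
      simp [hF, hG, smul_eq_C_mul, zero_pow (show e i ≠ 0 by omega), hGa, sub_eq_zero, hab] at h1
      subst h1
      simp only [zero_smul, add_zero, smul_eq_zero] at hxy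
      exact ⟨hxy.resolve_right hFne, rfl⟩
    refine (Submodule.eq_of_le_of_finrank_eq (Submodule.span_le.2 (by rintro _ (rfl | rfl); exacts [hFV, hGV])) ?_).symm
    have := finrank_span_eq_card hli
    rw [Matrix.range_cons, Matrix.range_cons, Matrix.range_empty, Set.union_empty, Set.singleton_union,
      Fintype.card_fin] at this
    rw [this, hV2]
  set F' := (X - C b) ^ (p - e j) * F0 with hF'
  set G' := (X - C a) ^ (p - e i) * G0 with hG'
  set U := (X - C a) ^ e i * (X - C b) ^ e j with hU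
  have hUF : U * F' = F * (X - C b) ^ p := by
    have hb' : (X - C b) ^ p = (X - C b) ^ e j * (X - C b) ^ (p - e j) := by rw [← pow_add]; congr 1; omega
    rw [hb']; ring
  have hUG : U * G' = G * (X - C a) ^ p := by
    have ha' : (X - C a) ^ p = (X - C a) ^ e i * (X - C a) ^ (p - e i) := by rw [← pow_add]; congr 1; omega
    rw [ha']; ring
  have hW : wronskian F G ≠ 0 := by
    obtain ⟨A, hA, B, hB, hAB⟩ := hs
    intro hW
    obtain ⟨x, y, rfl⟩ := Submodule.mem_span_pair.1 (hspan ▸ hA)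
    obtain ⟨x', y', rfl⟩ := Submodule.mem_span_pair.1 (hspan ▸ hB)
    refine hAB ?_
    have e1 : wronskian (x • F + y • G) (x' • F + y' • G) = C (x * y' - y * x') * wronskian F G := by
      simp only [wronskian, smul_eq_C_mul, derivative_add, derivative_mul, derivative_C, map_sub, map_mul]
      ring
    rw [e1, hW, mul_zero]
  have hW' : wronskian F' G' ≠ 0 := by
    intro h0
    have e1 : U * U * wronskian F' G' = (X - C b) ^ p * (X - C a) ^ p * wronskian F G := by
      calc U * U * wronskian F' G' = wronskian (U * F') (U * G') := by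
            simp only [wronskian, derivative_mul]; ring
        _ = _ := by
            rw [hUF, hUG]
            simp only [wronskian, derivative_mul, derivative_pow_char, mul_zero, add_zero]
            ring
    rw [h0, mul_zero, eq_comm, mul_eq_zero] at e1
    exact hW (e1.resolve_left (mul_ne_zero (pow_ne_zero _ (X_sub_C_ne_zero _)) (pow_ne_zero _ (X_sub_C_ne_zero _))))
  refine ⟨Submodule.span k {F', G'}, ⟨⟨?_, finrank_pair hW', ?_, ?_⟩,
    ⟨F', Submodule.subset_span (Or.inl rfl), G', Submodule.subset_span (Or.inr rfl), hW'⟩, ?_⟩, F0, G0, hspan, rfl⟩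
  · have hFd : F.natDegree ≤ d := natDegree_le_of_degree_le (mem_degreeLE.1 (hVle hFV))
    have hGd : G.natDegree ≤ d := natDegree_le_of_degree_le (mem_degreeLE.1 (hVle hGV))
    rw [hF, natDegree_mul (pow_ne_zero _ (X_sub_C_ne_zero _)) hF0ne, natDegree_pow, natDegree_X_sub_C, mul_one] at hFd
    rw [hG, natDegree_mul (pow_ne_zero _ (X_sub_C_ne_zero _)) hG0ne, natDegree_pow, natDegree_X_sub_C, mul_one] at hGd
    rw [Submodule.span_le]
    rintro _ (rfl | rfl) <;> rw [SetLike.mem_coe, mem_degreeLE] <;> refine natDegree_le_iff_degree_le.1 ?_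
    · rw [hF', natDegree_mul (pow_ne_zero _ (X_sub_C_ne_zero _)) hF0ne, natDegree_pow, natDegree_X_sub_C, mul_one]
      omega
    · rw [hG', natDegree_mul (pow_ne_zero _ (X_sub_C_ne_zero _)) hG0ne, natDegree_pow, natDegree_X_sub_C, mul_one]
      omega
  · have hFd : F.natDegree ≤ d := natDegree_le_of_degree_le (mem_degreeLE.1 (hVle hFV))
    have hGd : G.natDegree ≤ d := natDegree_le_of_degree_le (mem_degreeLE.1 (hVle hGV))
    have hor : F.natDegree = d ∨ G.natDegree = d := by
      by_contra hne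
      push_neg at hne
      obtain ⟨x, y, rfl⟩ := Submodule.mem_span_pair.1 (hspan ▸ hsd)
      have := natDegree_add_le (x • F) (y • G)
      have := natDegree_smul_le x F
      have := natDegree_smul_le y G
      omega
    rcases hor with h | h
    · refine ⟨F', Submodule.subset_span (Or.inl rfl), ?_⟩
      rw [hF, natDegree_mul (pow_ne_zero _ (X_sub_C_ne_zero _)) hF0ne, natDegree_pow, natDegree_X_sub_C, mul_one] at h
      rw [hF', natDegree_mul (pow_ne_zero _ (X_sub_C_ne_zero _)) hF0ne, natDegree_pow, natDegree_X_sub_C, mul_one]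
      omega
    · refine ⟨G', Submodule.subset_span (Or.inr rfl), ?_⟩
      rw [hG, natDegree_mul (pow_ne_zero _ (X_sub_C_ne_zero _)) hG0ne, natDegree_pow, natDegree_X_sub_C, mul_one] at h
      rw [hG', natDegree_mul (pow_ne_zero _ (X_sub_C_ne_zero _)) hG0ne, natDegree_pow, natDegree_X_sub_C, mul_one]
      omega
  · intro x
    by_cases hxa : x = a
    · refine ⟨F', Submodule.subset_span (Or.inl rfl), ?_⟩
      rw [hF', hxa, eval_mul, eval_pow, eval_sub, eval_X, eval_C]
      exact mul_ne_zero (pow_ne_zero _ (sub_ne_zero.2 hab)) hFa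
    by_cases hxb : x = b
    · refine ⟨G', Submodule.subset_span (Or.inr rfl), ?_⟩
      rw [hG', hxb, eval_mul, eval_pow, eval_sub, eval_X, eval_C]
      exact mul_ne_zero (pow_ne_zero _ (sub_ne_zero.2 hab.symm)) hGb
    by_contra hne
    push_neg at hne
    have h1 := hne F' (Submodule.subset_span (Or.inl rfl))
    have h2 := hne G' (Submodule.subset_span (Or.inr rfl))
    simp [hF', sub_eq_zero, hxb] at h1
    simp [hG', sub_eq_zero, hxa] at h2
    obtain ⟨t, ht, htx⟩ := hbp x
    obtain ⟨α, β, rfl⟩ := Submodule.mem_span_pair.1 (hspan ▸ ht)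
    exact htx (by simp [hF, hG, smul_eq_C_mul, h1, h2])
  intro l
  rcases eq_or_ne l i with rfl | hli
  · rw [flipIdx_left _ hij]
    refine ⟨⟨G', Submodule.subset_span (Or.inr rfl), mul_ne_zero (pow_ne_zero _ (X_sub_C_ne_zero _)) hG0ne,
      (le_rootMultiplicity_iff (mul_ne_zero (pow_ne_zero _ (X_sub_C_ne_zero _)) hG0ne)).2 (dvd_mul_right _ _)⟩,
      fun t ht ht0 => ?_⟩
    obtain ⟨α, β, rfl⟩ := Submodule.mem_span_pair.1 ht
    by_contra hlt'
    push_neg at hlt'
    have hd1 := (le_rootMultiplicity_iff ht0).1 hlt'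
    have hα : α = 0 := by
      have := dvd_iff_isRoot.1 ((dvd_pow_self _ (Nat.succ_ne_zero _)).trans hd1)
      have h2 : α = 0 ∨ F0.eval a = 0 := by
        simpa [IsRoot, hF', hG', smul_eq_C_mul, ← ha, zero_pow (show p - e l ≠ 0 by omega), sub_eq_zero, hab] using this
      exact h2.resolve_right hFa
    subst hα
    have hβ : β ≠ 0 := fun h => ht0 (by simp [h])
    rw [zero_smul, zero_add, smul_eq_C_mul, IsUnit.dvd_mul_left (isUnit_C.2 (IsUnit.mk0 _ hβ)), hG', pow_succ,
      mul_dvd_mul_iff_left (pow_ne_zero _ (X_sub_C_ne_zero _)), dvd_iff_isRoot] at hd1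
    exact hGa hd1
  rcases eq_or_ne l j with rfl | hlj
  · rw [flipIdx_right]
    refine ⟨⟨F', Submodule.subset_span (Or.inl rfl), mul_ne_zero (pow_ne_zero _ (X_sub_C_ne_zero _)) hF0ne,
      (le_rootMultiplicity_iff (mul_ne_zero (pow_ne_zero _ (X_sub_C_ne_zero _)) hF0ne)).2 (dvd_mul_right _ _)⟩,
      fun t ht ht0 => ?_⟩
    obtain ⟨α, β, rfl⟩ := Submodule.mem_span_pair.1 ht
    by_contra hlt'
    push_neg at hlt'
    have hd1 := (le_rootMultiplicity_iff ht0).1 hlt'
    have hβ : β = 0 := by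
      have := dvd_iff_isRoot.1 ((dvd_pow_self _ (Nat.succ_ne_zero _)).trans hd1)
      have h2 : β = 0 ∨ G0.eval b = 0 := by
        simpa [IsRoot, hF', hG', smul_eq_C_mul, ← hb, zero_pow (show p - e l ≠ 0 by omega), sub_eq_zero, hab.symm]
          using this
      exact h2.resolve_right hGb
    subst hβ
    have hα : α ≠ 0 := fun h => ht0 (by simp [h])
    rw [zero_smul, add_zero, smul_eq_C_mul, IsUnit.dvd_mul_left (isUnit_C.2 (IsUnit.mk0 _ hα)), hF', pow_succ,
      mul_dvd_mul_iff_left (pow_ne_zero _ (X_sub_C_ne_zero _)), dvd_iff_isRoot] at hd1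
    exact hFb hd1
  rw [flipIdx_other _ hli hlj]
  set c := P l with hc
  have hla : c - a ≠ 0 := sub_ne_zero.2 fun h => hli (hP h)
  have hlb : c - b ≠ 0 := sub_ne_zero.2 fun h => hlj (hP h)
  set μ := (c - b) ^ p with hμ
  set ν := (c - a) ^ p with hν
  have hμ0 : μ ≠ 0 := pow_ne_zero _ hlb
  have hν0 : ν ≠ 0 := pow_ne_zero _ hla
  have hcop : ∀ m : ℕ, IsCoprime ((X - C c) ^ m) U := fun m => by
    refine (IsCoprime.mul_right ?_ ?_).pow_left
    · exact (isCoprime_X_sub_C_of_isUnit_sub (IsUnit.mk0 _ hla)).pow_right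
    · exact (isCoprime_X_sub_C_of_isUnit_sub (IsUnit.mk0 _ hlb)).pow_right
  have key : ∀ (α β : k) (m : ℕ), m ≤ p →
      ((X - C c) ^ m ∣ α • F' + β • G' ↔ (X - C c) ^ m ∣ (α * μ) • F + (β * ν) • G) := by
    intro α β m hm
    have e1 : U * (α • F' + β • G') = ((α * μ) • F + (β * ν) • G) + (α • F + β • G) * (X - C c) ^ p := by
      simp only [smul_eq_C_mul]
      calc U * (C α * F' + C β * G') = C α * (U * F') + C β * (U * G') := by ring
        _ = _ := by
            rw [hUF, hUG, X_sub_C_pow_char (p := p) b c, X_sub_C_pow_char (p := p) a c, ← hμ, ← hν, map_mul, map_mul]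
            ring
    constructor
    · intro h
      have h1 := h.mul_left U
      rw [e1] at h1
      exact (dvd_add_left (dvd_mul_of_dvd_right (pow_dvd_pow _ hm) _)).1 h1
    · intro h
      refine (hcop m).dvd_of_dvd_mul_left ?_
      rw [e1]
      exact dvd_add h (dvd_mul_of_dvd_right (pow_dvd_pow _ hm) _)
  obtain ⟨⟨t, ht, ht0, hte⟩, hmax⟩ := hram l
  constructor
  · obtain ⟨α, β, rfl⟩ := Submodule.mem_span_pair.1 (hspan ▸ ht)
    have h1 := (le_rootMultiplicity_iff ht0).1 hte
    have hne : (α / μ) • F' + (β / ν) • G' ≠ 0 := by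
      intro h0
      have hli' := pencil_indep (finrank_pair hW') rfl
      obtain ⟨hα, hβ⟩ := LinearIndependent.pair_iff.1 hli' _ _ h0
      simp only [div_eq_zero_iff, hμ0, hν0, or_false] at hα hβ
      exact ht0 (by simp [hα, hβ])
    refine ⟨_, Submodule.mem_span_pair.2 ⟨α / μ, β / ν, rfl⟩, hne, (le_rootMultiplicity_iff hne).2 ?_⟩
    rw [key _ _ _ (hlt l).le, div_mul_cancel₀ _ hμ0, div_mul_cancel₀ _ hν0]
    exact h1
  · intro q hq hq0
    obtain ⟨α, β, rfl⟩ := Submodule.mem_span_pair.1 hq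
    by_contra hlt'
    push_neg at hlt'
    have hd1 := (key α β (e l + 1) (hlt l)).1 ((le_rootMultiplicity_iff hq0).1 hlt')
    have hne : (α * μ) • F + (β * ν) • G ≠ 0 := by
      intro h0
      have hli' := pencil_indep hV2 hspan
      obtain ⟨hα, hβ⟩ := LinearIndependent.pair_iff.1 hli' _ _ h0
      simp only [mul_eq_zero, hμ0, hν0, or_false] at hα hβ
      exact hq0 (by simp [hα, hβ])
    have h2 := hmax _ (hspan ▸ Submodule.mem_span_pair.2 ⟨α * μ, β * ν, rfl⟩) hne
    have h3 : e l + 1 ≤ e l := ((le_rootMultiplicity_iff hne).2 hd1).trans h2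
    omega

theorem FlipRel.symm {a b : k} {ea eb : ℕ} (ha : ea ≤ p) (hb : eb ≤ p) {V V' : Submodule k k[X]}
    (h : FlipRel p a b ea eb V V') : FlipRel p a b (p - ea) (p - eb) V' V := by
  obtain ⟨F0, G0, h1, h2⟩ := h
  refine ⟨G0, F0, ?_, ?_⟩
  · rw [h2, Set.pair_comm]
  · rw [h1, Set.pair_comm, Nat.sub_sub_self ha, Nat.sub_sub_self hb]

theorem FlipRel.unique {a b : k} {ea eb : ℕ} (hea : ea ≠ 0) (heb : eb ≠ 0) {V V₁ V₂ : Submodule k k[X]}
    (hV2 : Module.finrank k V = 2) (hsep : SepAt V a b)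
    (h1 : FlipRel p a b ea eb V V₁) (h2 : FlipRel p a b ea eb V V₂) : V₁ = V₂ := by
  have key : ∀ {V₁ V₂ : Submodule k k[X]}, FlipRel p a b ea eb V V₁ → FlipRel p a b ea eb V V₂ → V₂ ≤ V₁ := by
    intro V₁ V₂ h1 h2
    obtain ⟨F0, G0, hV, rfl⟩ := h1
    obtain ⟨F1, G1, hV', rfl⟩ := h2
    have hF : (X - C a) ^ ea * F1 ∈ V := hV' ▸ Submodule.subset_span (Or.inl rfl)
    have hG : (X - C b) ^ eb * G1 ∈ V := hV' ▸ Submodule.subset_span (Or.inr rfl)
    have hli := LinearIndependent.pair_iff.1 (pencil_indep hV2 hV)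
    obtain ⟨α, β, hαβ⟩ := Submodule.mem_span_pair.1 (hV ▸ hF)
    obtain ⟨γ, δ, hγδ⟩ := Submodule.mem_span_pair.1 (hV ▸ hG)
    have hGne : (X - C b) ^ eb * G0 ≠ 0 := fun h0 => one_ne_zero (hli 0 1 (by simp [h0])).2
    have hFne : (X - C a) ^ ea * F0 ≠ 0 := fun h0 => one_ne_zero (hli 1 0 (by simp [h0])).1
    have hGa : ((X - C b) ^ eb * G0).eval a ≠ 0 := fun h0 => hGne (hsep _
      (hV ▸ Submodule.subset_span (Or.inr rfl)) h0 (by simp [IsRoot, zero_pow heb]))
    have hFb : ((X - C a) ^ ea * F0).eval b ≠ 0 := fun h0 => hFne (hsep _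
      (hV ▸ Submodule.subset_span (Or.inl rfl)) (by simp [IsRoot, zero_pow hea]) h0)
    have hβ : β = 0 := by
      have := congrArg (eval a) hαβ
      simp only [eval_add, eval_smul, smul_eq_mul, eval_mul, eval_pow, eval_sub, eval_X, eval_C, sub_self,
        zero_pow hea, zero_mul, mul_zero, zero_add] at this
      refine (mul_eq_zero.1 this).resolve_right ?_
      simpa using hGa
    have hγ : γ = 0 := by
      have := congrArg (eval b) hγδ
      simp only [eval_add, eval_smul, smul_eq_mul, eval_mul, eval_pow, eval_sub, eval_X, eval_C, sub_self,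
        zero_pow heb, zero_mul, mul_zero, add_zero] at this
      refine (mul_eq_zero.1 this).resolve_right ?_
      simpa using hFb
    subst hβ hγ
    rw [zero_smul, add_zero, ← mul_smul_comm] at hαβ
    rw [zero_smul, zero_add, ← mul_smul_comm] at hγδ
    rw [← mul_left_cancel₀ (pow_ne_zero _ (X_sub_C_ne_zero a)) hαβ,
      ← mul_left_cancel₀ (pow_ne_zero _ (X_sub_C_ne_zero b)) hγδ]
    rw [Submodule.span_le]
    rintro _ (rfl | rfl)
    · rw [mul_smul_comm]; exact Submodule.smul_mem _ _ (Submodule.subset_span (Or.inl rfl))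
    · rw [mul_smul_comm]; exact Submodule.smul_mem _ _ (Submodule.subset_span (Or.inr rfl))
  exact le_antisymm (key h2 h1) (key h1 h2)

/-- For general points the flipped problem has the same solutions. -/
theorem exists_flip_equiv [IsAlgClosed k] {e : Fin n → ℕ} (he : Admissible1 p d e) (hlt : ∀ l, e l < p)
    {i j : Fin n} (hij : i ≠ j) (hid : e i ≤ d) (hjd : e j ≤ d) :
    ∃ Φ : MvPolynomial (Fin n) k, Φ ≠ 0 ∧ ∀ P : Fin n → k, MvPolynomial.eval P Φ ≠ 0 →
      Nonempty (ramMaps d P e ≃ ramMaps (d + p - e i - e j) P (flipIdx p e i j)) := by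
  classical
  have he' := admissible1_flipIdx he hlt hij hid
  obtain ⟨Φ₁, hΦ₁, h₁⟩ := exists_good (k := k) he
  obtain ⟨Φ₂, hΦ₂, h₂⟩ := exists_good (k := k) he'
  refine ⟨(∏ x : {x : Fin n × Fin n // x.1 ≠ x.2}, (MvPolynomial.X x.1.1 - MvPolynomial.X x.1.2)) * Φ₁ * Φ₂,
    mul_ne_zero (mul_ne_zero (Finset.prod_ne_zero_iff.2 fun x _ => sub_ne_zero.2 fun h => x.2
      (MvPolynomial.X_injective h)) hΦ₁) hΦ₂, fun P hP => ?_⟩
  simp only [map_mul, map_prod, mul_ne_zero_iff, Finset.prod_ne_zero_iff] at hP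
  have hPi : Function.Injective P := fun a b hab => by
    by_contra hne
    exact hP.1.1 ⟨(a, b), hne⟩ (Finset.mem_univ _) (by simp [hab])
  have hsep₁ : ∀ V ∈ ramMaps d P e, SepAt V (P i) (P j) := fun V hV s hs ha hb =>
    (h₁ P hP.1.2).2 V hV i j hij s hs ⟨ha, hb⟩
  have hsep₂ : ∀ V ∈ ramMaps (d + p - e i - e j) P (flipIdx p e i j), SepAt V (P i) (P j) := fun V hV s hs ha hb =>
    (h₂ P hP.2).2 V hV i j hij s hs ⟨ha, hb⟩
  have hlt' : ∀ l, flipIdx p e i j l < p := fun l => by
    have hi := (he.1 i).1; have hj := (he.1 j).1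
    rcases eq_or_ne l j with rfl | hlj
    · rw [flipIdx_right]; have := hlt l; omega
    rcases eq_or_ne l i with rfl | hli
    · rw [flipIdx_left _ hij]; have := hlt l; omega
    · rw [flipIdx_other _ hli hlj]; exact hlt l
  have hi0 : p - e i ≠ 0 := by have := hlt i; omega
  have hj0 : p - e j ≠ 0 := by have := hlt j; omega
  have hback : ∀ V' : ramMaps (d + p - e i - e j) P (flipIdx p e i j),
      ∃ V : ramMaps d P e, FlipRel p (P i) (P j) (e i) (e j) V.1 V'.1 := fun V' => by
    obtain ⟨V, hV, hR⟩ := exists_flip hPi he' hlt' hij V'.2 (hsep₂ _ V'.2)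
    rw [flipIdx_flipIdx _ hij (hlt i).le (hlt j).le, flipIdx_left _ hij, flipIdx_right] at hV
    rw [flipIdx_left _ hij, flipIdx_right] at hR
    have hd : d + p - e i - e j + p - (p - e i) - (p - e j) = d := by
      have := hlt i; have := hlt j; omega
    rw [hd] at hV
    have := hR.symm (Nat.sub_le _ _) (Nat.sub_le _ _)
    rw [Nat.sub_sub_self (hlt i).le, Nat.sub_sub_self (hlt j).le] at this
    exact ⟨⟨V, hV⟩, this⟩
  have hto : ∀ V : ramMaps d P e, ∃ V' : ramMaps (d + p - e i - e j) P (flipIdx p e i j),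
      FlipRel p (P i) (P j) (e i) (e j) V.1 V'.1 := fun V => by
    obtain ⟨V', hV', hR⟩ := exists_flip hPi he hlt hij V.2 (hsep₁ _ V.2)
    exact ⟨⟨V', hV'⟩, hR⟩
  choose T hT using hto
  choose S hS using hback
  refine ⟨{ toFun := T, invFun := S, left_inv := fun V => Subtype.ext ?_, right_inv := fun V' => Subtype.ext ?_ }⟩
  · exact FlipRel.unique (p := p) hi0 hj0 (T V).2.1.2.1 (hsep₂ _ (T V).2)
      ((hS (T V)).symm (hlt i).le (hlt j).le) ((hT V).symm (hlt i).le (hlt j).le)
  · exact FlipRel.unique (p := p) (by have := (he.1 i).1; omega) (by have := (he.1 j).1; omega)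
      (S V').2.1.2.1 (hsep₁ _ (S V').2) (hT (S V')) (hS V')

end GrothLib.RamFin10
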