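import Groth.Agent.Lib.UnrMono.FieldDim
import Mathlib.RingTheory.Polynomial.Wronskian
import Mathlib.RingTheory.Kaehler.Basic

/-!
# Tangent count for rational functions with prescribed ramification at moving points
-/

set_option autoImplicit false
set_option linter.all false
set_option backward.isDefEq.respectTransparency false

universe u

noncomputable section

open Polynomial

namespace GrothLib.RamFin10

variable {k K : Type u} [Field k] [Field K] [Algebra k K]

/-- A derivation applied to the coefficients of a polynomial. -/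
def Dc (D : Derivation k K K) : K[X] →+ K[X] where
  toFun p := p.sum fun j a => monomial j (D a)
  map_zero' := by simp
  map_add' p q := sum_add_index p q _ (fun j => by simp) (fun j a b => by simp)

@[simp] theorem coeff_Dc (D : Derivation k K K) (p : K[X]) (j : ℕ) : (Dc D p).coeff j = D (p.coeff j) := by
  show (p.sum fun j a => monomial j (D a)).coeff j = _
  rw [coeff_sum]
  simp only [coeff_monomial, Polynomial.sum_def]
  rw [Finset.sum_ite_eq']
  split_ifs with h
  · rfl
  · rw [Polynomial.notMem_support_iff.1 h, map_zero]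

theorem Dc_C (D : Derivation k K K) (a : K) : Dc D (C a) = C (D a) := by
  ext j
  rw [coeff_Dc, coeff_C, coeff_C]
  split_ifs <;> simp

theorem Dc_X (D : Derivation k K K) : Dc D X = 0 := by
  ext j
  rw [coeff_Dc, coeff_X]
  split_ifs <;> simp

theorem Dc_mul (D : Derivation k K K) (p q : K[X]) : Dc D (p * q) = Dc D p * q + p * Dc D q := by
  ext j
  rw [coeff_Dc, coeff_mul, coeff_add, coeff_mul, coeff_mul, map_sum, ← Finset.sum_add_distrib]
  refine Finset.sum_congr rfl fun x _ => ?_
  rw [D.leibniz, smul_eq_mul, smul_eq_mul, coeff_Dc, coeff_Dc]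
  ring

theorem Dc_pow_sub (D : Derivation k K K) (a : K) : ∀ e : ℕ,
    Dc D ((X - C a) ^ e) = -C ((e : K) * D a) * (X - C a) ^ (e - 1)
  | 0 => by rw [pow_zero, ← C_1, Dc_C]; simp
  | e + 1 => by
    rw [pow_succ, Dc_mul, Dc_pow_sub D a e, map_sub, Dc_X, Dc_C]
    rcases e with _ | e
    · simp
    · simp only [Nat.add_sub_cancel, Nat.cast_add, Nat.cast_one, map_mul, map_add, map_one, map_natCast]
      ring

theorem D_eval (D : Derivation k K K) (p : K[X]) (a : K) :
    D (p.eval a) = (Dc D p).eval a + (derivative p).eval a * D a := by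
  induction p using Polynomial.induction_on' with
  | add p q hp hq => simp only [eval_add, map_add, hp, hq, derivative_add]; ring
  | monomial j c =>
    rw [eval_monomial, derivative_monomial, eval_monomial, D.leibniz, D.leibniz_pow,
      show Dc D (monomial j c) = monomial j (D c) by
        ext i; rw [coeff_Dc, coeff_monomial, coeff_monomial]; split_ifs <;> simp,
      eval_monomial]
    simp only [smul_eq_mul, nsmul_eq_mul]
    ring

theorem pow_sub_one_dvd_Dc (D : Derivation k K K) {a : K} {e : ℕ} {T : K[X]} (h : (X - C a) ^ e ∣ T) :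
    (X - C a) ^ (e - 1) ∣ Dc D T := by
  obtain ⟨u, rfl⟩ := h
  rw [Dc_mul, Dc_pow_sub]
  exact dvd_add (dvd_mul_of_dvd_left (dvd_mul_left _ _) _) (dvd_mul_of_dvd_left (pow_dvd_pow _ (Nat.sub_le e 1)) _)

/-- The data of a rational function `F/G` with ramification exactly `e i` at `P i`. -/
structure RamData (k K : Type u) [Field k] [Field K] [Algebra k K] (d n : ℕ) (e : Fin n → ℕ) (F G : K[X])
    (P : Fin n → K) : Prop where
  one_le : 1 ≤ d
  monF : F.Monic
  degF : F.natDegree = d
  coeffF : F.coeff (d - 1) = 0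
  monG : G.Monic
  degG : G.natDegree = d - 1
  inj : Function.Injective P
  pos : ∀ i, 1 ≤ e i
  cast_ne : ∀ i, (e i : K) ≠ 0
  sum_eq : (∑ i, (e i - 1)) = 2 * d - 2
  wr_ne : wronskian F G ≠ 0
  dvd : ∀ i, (X - C (P i)) ^ e i ∣ C (G.eval (P i)) * F + C (-F.eval (P i)) * G
  not_dvd : ∀ i, ¬ (X - C (P i)) ^ (e i + 1) ∣ C (G.eval (P i)) * F + C (-F.eval (P i)) * G
  gen : ∀ D : Derivation k K K, (∀ i, D (P i) = 0) → Dc D F = 0 → Dc D G = 0 → D = 0

variable {d n : ℕ} {e : Fin n → ℕ} {F G : K[X]} {P : Fin n → K}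

/-- The product of the ramification factors. -/
def ramPoly (e : Fin n → ℕ) (P : Fin n → K) : K[X] := ∏ i, (X - C (P i)) ^ (e i - 1)

theorem natDegree_ramPoly : (ramPoly e P).natDegree = ∑ i, (e i - 1) := by
  rw [ramPoly, natDegree_prod _ _ fun i _ => pow_ne_zero _ (X_sub_C_ne_zero _)]
  simp

theorem ramPoly_dvd (hP : Function.Injective P) {Z : K[X]} (h : ∀ i, (X - C (P i)) ^ (e i - 1) ∣ Z) :
    ramPoly e P ∣ Z :=
  Finset.prod_dvd_of_coprime (fun i _ j _ hij =>
    ((pairwise_coprime_X_sub_C hP hij).pow : IsCoprime _ _)) fun i _ => h i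

theorem RamData.ab_ne (h : RamData k K d n e F G P) (i : Fin n) : G.eval (P i) ≠ 0 ∨ F.eval (P i) ≠ 0 := by
  by_contra hne
  push_neg at hne
  refine h.not_dvd i ?_
  rw [hne.1, hne.2]
  simp

theorem RamData.dvd_wr (h : RamData k K d n e F G P) (i : Fin n) :
    (X - C (P i)) ^ (e i - 1) ∣ wronskian F G := by
  have hT := h.dvd i
  set a := G.eval (P i) with ha
  set b := -F.eval (P i) with hb
  set T := C a * F + C b * G with hTdef
  have h1 : (X - C (P i)) ^ (e i - 1) ∣ T := dvd_trans (pow_dvd_pow _ (Nat.sub_le _ _)) hT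
  have h2 : (X - C (P i)) ^ (e i - 1) ∣ derivative T := pow_sub_one_dvd_derivative_of_pow_dvd hT
  rcases h.ab_ne i with ha0 | hb0
  · have e1 : C a * wronskian F G = T * derivative G - derivative T * G := by
      simp only [hTdef, wronskian, derivative_add, derivative_mul, derivative_C]; ring
    have := dvd_sub (h1.mul_right (derivative G)) (h2.mul_right G)
    rw [← e1] at this
    exact (IsUnit.dvd_mul_left (isUnit_C.2 (IsUnit.mk0 _ ha0))).1 this
  · have e1 : C b * wronskian F G = F * derivative T - derivative F * T := by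
      simp only [hTdef, wronskian, derivative_add, derivative_mul, derivative_C]; ring
    have := dvd_sub (h2.mul_left F) (h1.mul_left (derivative F))
    rw [← e1] at this
    exact (IsUnit.dvd_mul_left (isUnit_C.2 (IsUnit.mk0 _ (neg_ne_zero.2 hb0)))).1 this

theorem RamData.exists_unit (h : RamData k K d n e F G P) : ∃ c, IsUnit c ∧ wronskian F G = ramPoly e P * c := by
  obtain ⟨c, hc⟩ := ramPoly_dvd h.inj h.dvd_wr
  refine ⟨c, ?_, hc⟩
  have hdeg : (wronskian F G).natDegree ≤ 2 * d - 2 := by
    have := natDegree_wronskian_lt_add h.wr_ne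
    rw [h.degF, h.degG] at this
    omega
  have hc0 : c ≠ 0 := fun h0 => h.wr_ne (by rw [hc, h0, mul_zero])
  have hr0 : ramPoly e P ≠ 0 := fun h0 => h.wr_ne (by rw [hc, h0, zero_mul])
  rw [hc, natDegree_mul hr0 hc0, natDegree_ramPoly, h.sum_eq] at hdeg
  rw [eq_C_of_natDegree_eq_zero (by omega : c.natDegree = 0)] at hc0 ⊢
  exact isUnit_C.2 (IsUnit.mk0 _ fun h0 => hc0 (by rw [h0, map_zero]))

theorem RamData.eval_wr_eq_zero (h : RamData k K d n e F G P) {i : Fin n} (hi : 2 ≤ e i) :
    (wronskian F G).eval (P i) = 0 :=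
  dvd_iff_isRoot.1 ((dvd_pow_self _ (by omega)).trans (h.dvd_wr i))

theorem RamData.eval_wr_ne_zero (h : RamData k K d n e F G P) {i : Fin n} (hi : e i = 1) :
    (wronskian F G).eval (P i) ≠ 0 := by
  obtain ⟨c, hcu, hc⟩ := h.exists_unit
  obtain ⟨c, hc0, rfl⟩ := Polynomial.isUnit_iff.1 hcu
  rw [hc, eval_mul, eval_C, ramPoly, eval_prod]
  refine mul_ne_zero (Finset.prod_ne_zero_iff.2 fun j _ => ?_) hc0.ne_zero
  rw [eval_pow, eval_sub, eval_X, eval_C]
  by_cases hij : j = i
  · simp [hij, hi]
  · exact pow_ne_zero _ (sub_ne_zero.2 fun h' => hij (h.inj h'.symm))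

theorem RamData.isCoprime (h : RamData k K d n e F G P) : IsCoprime F G := by
  obtain ⟨c, hcu, hc⟩ := h.exists_unit
  refine isCoprime_of_prime_dvd (fun h0 => h.monF.ne_zero h0.1) fun π hπ hF hG => ?_
  have hW : π ∣ ramPoly e P := by
    refine (hπ.dvd_or_dvd (hc ▸ ?_ : π ∣ ramPoly e P * c)).resolve_right fun hpc =>
      hπ.not_unit (isUnit_of_dvd_unit hpc hcu)
    rw [wronskian]
    exact dvd_sub (hF.mul_right _) (hG.mul_left _)
  obtain ⟨i, -, hi⟩ := (hπ.dvd_finsetProd_iff _).1 hW
  have hi' : X - C (P i) ∣ π := (hπ.irreducible.associated_of_dvd (irreducible_X_sub_C _) (hπ.dvd_of_dvd_pow hi)).symm.dvd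
  rcases h.ab_ne i with ha | hb
  · exact ha (dvd_iff_isRoot.1 (hi'.trans hG))
  · exact hb (dvd_iff_isRoot.1 (hi'.trans hF))

/-- The numerator of the variation of `F/G` along a derivation corrected by a target vector field. -/
def Zed (F G : K[X]) : (Derivation k K K × (Fin 3 → K)) →ₗ[K] K[X] where
  toFun v := Dc v.1 F * G - F * Dc v.1 G - (C (v.2 0) * (G * G) + C (v.2 1) * (F * G) + C (v.2 2) * (F * F))
  map_add' v w := by
    have e1 : ∀ p, Dc (v.1 + w.1) p = Dc v.1 p + Dc w.1 p := fun p => by ext j; simp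
    simp only [Prod.fst_add, Prod.snd_add, e1, Pi.add_apply, map_add]
    ring
  map_smul' c v := by
    have e1 : ∀ p, Dc (c • v.1) p = C c * Dc v.1 p := fun p => by ext j; simp
    simp only [Prod.smul_fst, Prod.smul_snd, e1, Pi.smul_apply, smul_eq_mul, map_mul, RingHom.id_apply,
      Polynomial.smul_eq_C_mul]
    ring

theorem Zed_apply (F G : K[X]) (v : Derivation k K K × (Fin 3 → K)) :
    Zed F G v = Dc v.1 F * G - F * Dc v.1 G -
      (C (v.2 0) * (G * G) + C (v.2 1) * (F * G) + C (v.2 2) * (F * F)) := rfl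

/-- The variation of the branch value at a point, corrected by a target vector field. -/
def kap (F G : K[X]) (x : K) (v : Derivation k K K × (Fin 3 → K)) : K :=
  v.1 (G.eval x) * (-F.eval x) - v.1 (-F.eval x) * G.eval x -
    (v.2 0 * (G.eval x * G.eval x) - v.2 1 * (G.eval x * (-F.eval x)) + v.2 2 * ((-F.eval x) * (-F.eval x)))

theorem kap_eq (F G : K[X]) (x : K) (v : Derivation k K K × (Fin 3 → K)) :
    kap F G x v = (Zed F G v).eval x - v.1 x * (wronskian F G).eval x := by
  simp only [kap, Zed_apply, wronskian, eval_sub, eval_add, eval_mul, eval_C, map_neg, D_eval]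
  ring

/-- The variations of the branch values. -/
def Phi (F G : K[X]) (P : Fin n → K) : (Derivation k K K × (Fin 3 → K)) →ₗ[K] (Fin n → K) where
  toFun v i := (Zed F G v).eval (P i) - v.1 (P i) * (wronskian F G).eval (P i)
  map_add' v w := by ext i; simp only [map_add, eval_add, Prod.fst_add, Derivation.add_apply, Pi.add_apply]; ring
  map_smul' c v := by
    ext i
    simp only [map_smul, eval_smul, Prod.smul_fst, Derivation.smul_apply, smul_eq_mul, RingHom.id_apply, Pi.smul_apply]
    ring

theorem Phi_apply (F G : K[X]) (P : Fin n → K) (v : Derivation k K K × (Fin 3 → K)) (i : Fin n) :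
    Phi F G P v i = kap F G (P i) v := (kap_eq F G (P i) v).symm

theorem RamData.dvd_Zed (h : RamData k K d n e F G P) (i : Fin n) (v : Derivation k K K × (Fin 3 → K))
    (hv : kap F G (P i) v = 0) : (X - C (P i)) ^ (e i - 1) ∣ Zed F G v := by
  have hT := h.dvd i
  have hκ := hv.symm
  unfold kap at hκ
  obtain ⟨D, hh⟩ := v
  dsimp only at hκ ⊢
  set a := G.eval (P i) with ha
  set b := -F.eval (P i) with hb
  set T := C a * F + C b * G with hTdef
  have h1 : (X - C (P i)) ^ (e i - 1) ∣ T := dvd_trans (pow_dvd_pow _ (Nat.sub_le _ _)) hT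
  have h2 : (X - C (P i)) ^ (e i - 1) ∣ Dc D T := pow_sub_one_dvd_Dc D hT
  have hκC := congrArg C hκ.symm
  simp only [map_sub, map_add, map_mul, map_zero] at hκC
  rcases h.ab_ne i with ha0 | hb0
  · have e1 : C (a * a) * Zed F G (D, hh) =
        C a * G * Dc D T - T * (C (D a) * G + C a * Dc D G + C (hh 1) * C a * G + C (hh 2) * (C a * F - C b * G)) := by
      simp only [Zed_apply, hTdef, map_add, Dc_mul, Dc_C, map_mul]
      linear_combination G * G * hκC
    have := dvd_sub (h2.mul_left (C a * G))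
      (h1.mul_right (C (D a) * G + C a * Dc D G + C (hh 1) * C a * G + C (hh 2) * (C a * F - C b * G)))
    rw [← e1] at this
    exact (IsUnit.dvd_mul_left (isUnit_C.2 (IsUnit.mk0 _ (mul_ne_zero ha0 ha0)))).1 this
  · have e1 : C (b * b) * Zed F G (D, hh) =
        T * (C (D b) * F + C b * Dc D F - C (hh 1) * C b * F - C (hh 0) * (C b * G - C a * F)) -
          C b * F * Dc D T := by
      simp only [Zed_apply, hTdef, map_add, Dc_mul, Dc_C, map_mul]
      linear_combination F * F * hκC
    have := dvd_sub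
      (h1.mul_right (C (D b) * F + C b * Dc D F - C (hh 1) * C b * F - C (hh 0) * (C b * G - C a * F)))
      (h2.mul_left (C b * F))
    rw [← e1] at this
    exact (IsUnit.dvd_mul_left (isUnit_C.2 (IsUnit.mk0 _ (mul_ne_zero (neg_ne_zero.2 hb0) (neg_ne_zero.2 hb0))))).1 this

theorem RamData.natDegree_Dc (h : RamData k K d n e F G P) (D : Derivation k K K) :
    (∀ j, d - 1 ≤ j → (Dc D F).coeff j = 0) ∧ (∀ j, d - 1 ≤ j → (Dc D G).coeff j = 0) := by
  constructor <;> intro j hj <;> rw [coeff_Dc]
  · rcases (by omega : j = d - 1 ∨ j = d ∨ d < j) with rfl | rfl | hj'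
    · rw [h.coeffF, map_zero]
    · rw [← h.degF, h.monF.coeff_natDegree, D.map_one_eq_zero]
    · rw [coeff_eq_zero_of_natDegree_lt (h.degF ▸ hj'), map_zero]
  · rcases (by omega : j = d - 1 ∨ d - 1 < j) with rfl | hj'
    · rw [← h.degG, h.monG.coeff_natDegree, D.map_one_eq_zero]
    · rw [coeff_eq_zero_of_natDegree_lt (h.degG ▸ hj'), map_zero]

theorem RamData.eq_zero_of_Zed (h : RamData k K d n e F G P) (v : Derivation k K K × (Fin 3 → K))
    (hv : Zed F G v = 0) (hk : Phi F G P v = 0) : v = 0 := by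
  have hZ := hv
  obtain ⟨D, hh⟩ := v
  rw [Zed_apply] at hv
  dsimp only at hv
  obtain ⟨hDF, hDG⟩ := h.natDegree_Dc D
  have hd := h.one_le
  have hr : F ∣ Dc D F - C (hh 0) * G := by
    refine h.isCoprime.dvd_of_dvd_mul_right ⟨Dc D G + C (hh 1) * G + C (hh 2) * F, ?_⟩
    linear_combination hv
  have hr0 : Dc D F - C (hh 0) * G = 0 := by
    by_contra hne
    have h1 := natDegree_le_of_dvd hr hne
    have h2 : (Dc D F - C (hh 0) * G).natDegree ≤ d - 1 := natDegree_le_iff_coeff_eq_zero.2 fun j hj => by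
      rw [coeff_sub, coeff_C_mul, hDF j hj.le, coeff_eq_zero_of_natDegree_lt (h.degG ▸ hj)]
      simp
    rw [h.degF] at h1
    omega
  have h0 : hh 0 = 0 := by
    have := congrArg (coeff · (d - 1)) hr0
    simp only [coeff_sub, coeff_C_mul, coeff_zero, hDF (d - 1) le_rfl] at this
    rw [← h.degG, h.monG.coeff_natDegree] at this
    simpa using this
  have hDF0 : Dc D F = 0 := by simpa [h0] using hr0
  have hG' : Dc D G + C (hh 1) * G + C (hh 2) * F = 0 := by
    refine (mul_eq_zero.1 (?_ : F * (Dc D G + C (hh 1) * G + C (hh 2) * F) = 0)).resolve_left h.monF.ne_zero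
    linear_combination (-1 : K[X]) * hv + G * hr0
  have h2 : hh 2 = 0 := by
    have := congrArg (coeff · d) hG'
    simp only [coeff_add, coeff_C_mul, coeff_zero, hDG d (by omega),
      coeff_eq_zero_of_natDegree_lt (show G.natDegree < d by rw [h.degG]; omega)] at this
    rw [← h.degF, h.monF.coeff_natDegree] at this
    simpa using this
  have h1 : hh 1 = 0 := by
    have := congrArg (coeff · (d - 1)) hG'
    simp only [coeff_add, coeff_C_mul, coeff_zero, hDG (d - 1) le_rfl, h2] at this
    rw [← h.degG, h.monG.coeff_natDegree] at this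
    simpa using this
  have hDG0 : Dc D G = 0 := by simpa [h1, h2] using hG'
  have hD : D = 0 := h.gen D (fun i => ?_) hDF0 hDG0
  · refine Prod.ext hD (funext fun j => ?_)
    fin_cases j <;> simp [h0, h1, h2]
  by_cases hei : e i = 1
  · have h3 : (Zed F G (D, hh)).eval (P i) - D (P i) * (wronskian F G).eval (P i) = 0 := congrFun hk i
    rw [hZ, eval_zero, zero_sub, neg_eq_zero, mul_eq_zero] at h3
    exact h3.resolve_right (h.eval_wr_ne_zero hei)
  have h2e : 2 ≤ e i := by have := h.pos i; omega
  set a := G.eval (P i) with ha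
  set b := -F.eval (P i) with hb
  obtain ⟨u, hu⟩ := h.dvd i
  have hu0 : u.eval (P i) ≠ 0 := fun h0 => h.not_dvd i (by
    rw [hu, pow_succ]; exact mul_dvd_mul_left _ (dvd_iff_isRoot.2 h0))
  have hT : Dc D (C a * F + C b * G) = C (D a) * F + C (D b) * G := by
    rw [map_add, Dc_mul, Dc_mul, Dc_C, Dc_C, hDF0, hDG0, mul_zero, mul_zero, add_zero, add_zero]
  have hrel : D a * b = D b * a := by
    have h1 : D a = (derivative G).eval (P i) * D (P i) := by rw [ha, D_eval, hDG0]; simp
    have h2 : D b = -((derivative F).eval (P i) * D (P i)) := by rw [hb, map_neg, D_eval, hDF0]; simp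
    have hW : (wronskian F G).eval (P i) = 0 :=
      h.eval_wr_eq_zero h2e
    simp only [wronskian, eval_sub, eval_mul] at hW
    rw [h1, h2, ha, hb]
    linear_combination (-(D (P i))) * hW
  have hdiv : (X - C (P i)) ^ e i ∣ Dc D (C a * F + C b * G) := by
    rw [hT]
    rcases h.ab_ne i with ha0 | hb0
    · refine (IsUnit.dvd_mul_left (isUnit_C.2 (IsUnit.mk0 _ ha0))).1 ?_
      rw [show C a * (C (D a) * F + C (D b) * G) = C (D a) * (C a * F + C b * G) by
        have := congrArg C hrel
        simp only [map_mul] at this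
        linear_combination (-G) * this]
      exact (h.dvd i).mul_left _
    · refine (IsUnit.dvd_mul_left (isUnit_C.2 (IsUnit.mk0 _ (neg_ne_zero.2 hb0)))).1 ?_
      rw [show C b * (C (D a) * F + C (D b) * G) = C (D b) * (C a * F + C b * G) by
        have := congrArg C hrel
        simp only [map_mul] at this
        linear_combination F * this]
      exact (h.dvd i).mul_left _
  rw [hu, Dc_mul, Dc_pow_sub, dvd_add_left (dvd_mul_right _ _)] at hdiv
  obtain ⟨w, hw⟩ := hdiv
  have he := h2e
  have hw' : -C ((e i : K) * D (P i)) * u = (X - C (P i)) * w := by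
    refine mul_left_cancel₀ (pow_ne_zero (e i - 1) (X_sub_C_ne_zero (P i))) ?_
    rw [show (X - C (P i)) ^ e i = (X - C (P i)) ^ (e i - 1) * (X - C (P i)) by
      rw [← pow_succ]; congr 1; omega] at hw
    linear_combination hw
  have := congrArg (eval (P i)) hw'
  simp only [eval_mul, eval_neg, eval_C, eval_sub, eval_X, sub_self, zero_mul] at this
  simpa [hu0, h.cast_ne i] using this

variable [Algebra.EssFiniteType k K]

theorem finrank_der : Module.finrank K (Derivation k K K) = Module.finrank K Ω[K⁄k] := by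
  rw [← (KaehlerDifferential.linearMapEquivDerivation k K (M := K)).finrank_eq]
  exact Subspace.dual_finrank_eq

instance : Module.Finite K (Derivation k K K) :=
  Module.Finite.equiv (KaehlerDifferential.linearMapEquivDerivation k K (M := K))

theorem RamData.finrank_add_le (h : RamData k K d n e F G P) :
    Module.finrank K Ω[K⁄k] + 3 ≤ Module.finrank K (LinearMap.range (Phi (k := k) F G P)) + 3 := by
  classical
  let Φ := Phi (k := k) F G P
  let Q : Submodule K K[X] := (degreeLE K (2 : ℕ)).map (LinearMap.mulLeft K (ramPoly e P))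
  haveI : Module.Finite K (degreeLE K (2 : ℕ)) :=
    Module.Finite.iff_fg.2 ⟨_, (degreeLE_eq_span_X_pow (R := K) (n := 2)).symm⟩
  have hker : ∀ v ∈ LinearMap.ker Φ, Zed F G v ∈ Q := by
    intro v hv
    obtain ⟨q, hq⟩ := ramPoly_dvd h.inj fun i => h.dvd_Zed i v
      (((Phi_apply F G P v i).symm).trans (congrFun (LinearMap.mem_ker.1 hv) i))
    refine ⟨q, ?_, hq.symm⟩
    rw [SetLike.mem_coe, mem_degreeLE]
    by_cases hq0 : q = 0
    · simp [hq0]
    refine natDegree_le_iff_degree_le.1 ?_
    have h1 : (Zed F G v).natDegree ≤ 2 * d := natDegree_le_iff_coeff_eq_zero.2 fun j hj => by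
      have hF : F.natDegree ≤ d := h.degF.le
      have hG : G.natDegree ≤ d := h.degG.le.trans (Nat.sub_le _ _)
      obtain ⟨hDF, hDG⟩ := h.natDegree_Dc v.1
      have hF' : (Dc v.1 F).natDegree ≤ d :=
        natDegree_le_iff_coeff_eq_zero.2 fun j hj => hDF j (by omega)
      have hG' : (Dc v.1 G).natDegree ≤ d :=
        natDegree_le_iff_coeff_eq_zero.2 fun j hj => hDG j (by omega)
      have hz : ∀ p q : K[X], p.natDegree ≤ d → q.natDegree ≤ d → (p * q).coeff j = 0 := fun p q hp hq =>
        coeff_eq_zero_of_natDegree_lt (natDegree_mul_le.trans_lt (by omega))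
      simp only [Zed_apply, coeff_sub, coeff_add, coeff_C_mul, hz _ _ hF' hG, hz _ _ hF hG', hz _ _ hG hG,
        hz _ _ hF hG, hz _ _ hF hF]
      simp
    have hr0 : ramPoly e P ≠ 0 := Finset.prod_ne_zero_iff.2 fun i _ => pow_ne_zero _ (X_sub_C_ne_zero _)
    rw [hq, natDegree_mul hr0 hq0, natDegree_ramPoly, h.sum_eq] at h1
    have := h.one_le
    omega
  let Ψ : LinearMap.ker Φ →ₗ[K] Q := ((Zed F G).domRestrict _).codRestrict Q fun v => hker v v.2
  have hΨ : Function.Injective Ψ := fun v w hvw => Subtype.ext (sub_eq_zero.1 (h.eq_zero_of_Zed _ (by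
    rw [map_sub, sub_eq_zero]
    exact congrArg Subtype.val hvw) (LinearMap.mem_ker.1 (sub_mem v.2 w.2))))
  have h1 := LinearMap.finrank_range_add_finrank_ker Φ
  have h3 : Module.finrank K (degreeLE K (2 : ℕ)) ≤ 3 := by
    rw [degreeLE_eq_span_X_pow]
    exact (finrank_span_finset_le_card _).trans (Finset.card_image_le.trans (by simp))
  have h2 : Module.finrank K (LinearMap.ker Φ) ≤ 3 :=
    ((LinearMap.finrank_le_finrank_of_injective hΨ).trans (Submodule.finrank_map_le _ _)).trans h3
  rw [Module.finrank_prod, finrank_der, Module.finrank_fin_fun] at h1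
  show _ ≤ Module.finrank K (LinearMap.range Φ) + 3
  omega

/-- The transcendence degree is at most the number of points. -/
theorem RamData.trdeg_le (h : RamData k K d n e F G P) : Algebra.trdeg k K ≤ (n : Cardinal.{u}) := by
  refine (UnrMono.trdeg_le_finrank_kaehler k K).trans (Nat.cast_le.2 ?_)
  have := h.finrank_add_le
  have h2 := Submodule.finrank_le (LinearMap.range (Phi (k := k) F G P))
  rw [Module.finrank_fin_fun] at h2
  omega

/-- If two branch values coincide the transcendence degree is less. -/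
theorem RamData.trdeg_lt (h : RamData k K d n e F G P) {i j : Fin n} (hij : i ≠ j)
    (he : G.eval (P i) * F.eval (P j) = G.eval (P j) * F.eval (P i)) :
    Algebra.trdeg k K < (n : Cardinal.{u}) := by
  classical
  refine (UnrMono.trdeg_le_finrank_kaehler k K).trans_lt (Nat.cast_lt.2 ?_)
  have := h.finrank_add_le
  suffices LinearMap.range (Phi (k := k) F G P) < ⊤ by
    have := Submodule.finrank_lt this.ne
    rw [Module.finrank_fin_fun] at this
    omega
  rw [lt_top_iff_ne_top]
  intro htop
  obtain ⟨μ, hμa, hμb⟩ : ∃ μ, G.eval (P j) = μ * G.eval (P i) ∧ F.eval (P j) = μ * F.eval (P i) := by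
    rcases h.ab_ne i with ha | hb
    · exact ⟨G.eval (P j) / G.eval (P i), by field_simp, by field_simp; linear_combination he⟩
    · exact ⟨F.eval (P j) / F.eval (P i), by field_simp; linear_combination (-1 : K) * he, by field_simp⟩
  obtain ⟨v, hv⟩ := LinearMap.range_eq_top.1 htop (Pi.single j 1)
  have h1 : kap F G (P i) v = 0 := by
    rw [← Phi_apply, hv, Pi.single_eq_of_ne hij]
  have h2 : kap F G (P j) v = 1 := by
    rw [← Phi_apply, hv, Pi.single_eq_same]
  rw [kap, hμa, hμb] at h2
  rw [kap] at h1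
  have hD : ∀ x : K, v.1 (μ * x) = v.1 μ * x + μ * v.1 x := fun x => by
    rw [v.1.leibniz, smul_eq_mul, smul_eq_mul]; ring
  simp only [← mul_neg, hD, map_neg] at h1 h2
  exact one_ne_zero (α := K) (by linear_combination (-1 : K) * h2 + μ ^ 2 * h1)

end GrothLib.RamFin10
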