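import Groth.Prelude.Def_W4c1limliniiiiRamP1
import Groth.Agent.Lib.RamFin10.Tangent
import Groth.Agent.S13929
import Mathlib.RingTheory.Nullstellensatz
import Mathlib.RingTheory.Ideal.MinimalPrime.Noetherian
import Mathlib.RingTheory.Ideal.MinimalPrime.Localization
import Mathlib.RingTheory.AlgebraicIndependent.Transcendental

/-!
# Finiteness and separation for general ramification points
-/

set_option autoImplicit false
set_option linter.all false
set_option backward.isDefEq.respectTransparency false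

universe u

noncomputable section

open Polynomial W4c1limliniiii

namespace GrothLib.RamFin10

variable {k : Type u} [Field k] {d n : ℕ}

/-- The variables: the points and the coefficients of a normalised basis. -/
abbrev Var (d n : ℕ) : Type := Fin n ⊕ (Fin (d - 1) ⊕ Fin (d - 1))

variable {B B' : Type u} [CommRing B] [CommRing B']

/-- The lower part of a polynomial with given coefficients. -/
def lowPart {m : ℕ} (c : Fin m → B) : B[X] := ∑ j, C (c j) * X ^ (j : ℕ)

theorem coeff_lowPart {m : ℕ} (c : Fin m → B) (j : ℕ) :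
    (lowPart c).coeff j = if h : j < m then c ⟨j, h⟩ else 0 := by
  classical
  simp only [lowPart, finset_sum_coeff, coeff_C_mul, coeff_X_pow, mul_ite, mul_one, mul_zero]
  split_ifs with h
  · rw [Finset.sum_eq_single (⟨j, h⟩ : Fin m)]
    · simp
    · exact fun i _ hi => if_neg fun e => hi (Fin.ext e.symm)
    · simp
  · exact Finset.sum_eq_zero fun i _ => if_neg (by omega)

/-- The monic polynomial of degree `d` with vanishing next coefficient. -/
def polyF (d : ℕ) (c : Fin (d - 1) → B) : B[X] := X ^ d + lowPart c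

/-- The monic polynomial of degree `d - 1`. -/
def polyG (d : ℕ) (c : Fin (d - 1) → B) : B[X] := X ^ (d - 1) + lowPart c

theorem map_lowPart (φ : B →+* B') {m : ℕ} (c : Fin m → B) : (lowPart c).map φ = lowPart fun j => φ (c j) := by
  simp [lowPart, Polynomial.map_sum]

theorem map_polyF (φ : B →+* B') (c : Fin (d - 1) → B) : (polyF d c).map φ = polyF d fun j => φ (c j) := by
  simp [polyF, map_lowPart]

theorem map_polyG (φ : B →+* B') (c : Fin (d - 1) → B) : (polyG d c).map φ = polyG d fun j => φ (c j) := by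
  simp [polyG, map_lowPart]

theorem polyF_spec {L : Type u} [Field L] (hd : 1 ≤ d) (c : Fin (d - 1) → L) :
    (polyF d c).Monic ∧ (polyF d c).natDegree = d ∧ (polyF d c).coeff (d - 1) = 0 ∧
      ∀ j : Fin (d - 1), (polyF d c).coeff j.1 = c j := by
  have hcoef : ∀ j, (polyF d c).coeff j = (if j = d then 1 else 0) + (if h : j < d - 1 then c ⟨j, h⟩ else 0) :=
    fun j => by simp [polyF, coeff_lowPart, coeff_X_pow]
  have h1 : (polyF d c).natDegree ≤ d := natDegree_le_iff_coeff_eq_zero.2 fun j hj => by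
    rw [hcoef, if_neg (by omega), dif_neg (by omega), add_zero]
  have h2 : (polyF d c).coeff d = 1 := by rw [hcoef, if_pos rfl, dif_neg (by omega), add_zero]
  refine ⟨monic_of_natDegree_le_of_coeff_eq_one d h1 h2, natDegree_eq_of_le_of_coeff_ne_zero h1 (by rw [h2]; exact one_ne_zero), ?_, fun j => ?_⟩
  · rw [hcoef, if_neg (by omega), dif_neg (lt_irrefl _), add_zero]
  · rw [hcoef, if_neg (by omega), dif_pos j.2, zero_add]

theorem polyG_spec {L : Type u} [Field L] (c : Fin (d - 1) → L) :
    (polyG d c).Monic ∧ (polyG d c).natDegree = d - 1 ∧ ∀ j : Fin (d - 1), (polyG d c).coeff j.1 = c j := by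
  have hcoef : ∀ j, (polyG d c).coeff j = (if j = d - 1 then 1 else 0) + (if h : j < d - 1 then c ⟨j, h⟩ else 0) :=
    fun j => by simp [polyG, coeff_lowPart, coeff_X_pow]
  have h1 : (polyG d c).natDegree ≤ d - 1 := natDegree_le_iff_coeff_eq_zero.2 fun j hj => by
    rw [hcoef, if_neg (by omega), dif_neg (by omega), add_zero]
  have h2 : (polyG d c).coeff (d - 1) = 1 := by rw [hcoef, if_pos rfl, dif_neg (lt_irrefl _), add_zero]
  refine ⟨monic_of_natDegree_le_of_coeff_eq_one _ h1 h2, natDegree_eq_of_le_of_coeff_ne_zero h1 (by rw [h2]; exact one_ne_zero), fun j => ?_⟩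
  rw [hcoef, if_neg (by omega), dif_pos j.2, zero_add]

variable (k d n) in
/-- The universal point coordinates. -/
abbrev Pu (i : Fin n) : MvPolynomial (Var d n) k := MvPolynomial.X (Sum.inl i)

/-- The first basis vector. -/
def FF (v : Var d n → B) : B[X] := polyF d fun j => v (Sum.inr (Sum.inl j))

/-- The second basis vector. -/
def GG (v : Var d n → B) : B[X] := polyG d fun j => v (Sum.inr (Sum.inr j))

/-- The member of the pencil vanishing at the point. -/
def TT (v : Var d n → B) (i : Fin n) : B[X] :=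
  C ((GG v).eval (v (Sum.inl i))) * FF v + C (-(FF v).eval (v (Sum.inl i))) * GG v

theorem map_FF (φ : B →+* B') (v : Var d n → B) : (FF v).map φ = FF (fun s => φ (v s)) := map_polyF φ _

theorem map_GG (φ : B →+* B') (v : Var d n → B) : (GG v).map φ = GG (fun s => φ (v s)) := map_polyG φ _

theorem eval_FF (φ : B →+* B') (v : Var d n → B) (a : B) : φ ((FF v).eval a) = (FF fun s => φ (v s)).eval (φ a) := by
  rw [← map_FF, eval_map_apply]

theorem eval_GG (φ : B →+* B') (v : Var d n → B) (a : B) : φ ((GG v).eval a) = (GG fun s => φ (v s)).eval (φ a) := by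
  rw [← map_GG, eval_map_apply]

theorem map_TT (φ : B →+* B') (v : Var d n → B) (i : Fin n) : (TT v i).map φ = TT (fun s => φ (v s)) i := by
  rw [TT, Polynomial.map_add, Polynomial.map_mul, Polynomial.map_mul, Polynomial.map_C, Polynomial.map_C, map_neg φ,
    map_FF, map_GG, eval_FF φ, eval_GG φ, TT]

/-- The Taylor coefficients of the vanishing member. -/
def tcoef (v : Var d n → B) (i : Fin n) (l : ℕ) : B := (taylor (v (Sum.inl i)) (TT v i)).coeff l

theorem map_tcoef (φ : B →+* B') (v : Var d n → B) (i : Fin n) (l : ℕ) :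
    φ (tcoef v i l) = tcoef (fun s => φ (v s)) i l := by
  rw [tcoef, tcoef, ← map_TT, ← coeff_map, taylor_apply, taylor_apply, map_comp, Polynomial.map_add, map_X, map_C]

theorem pow_dvd_iff_taylor {L : Type u} [Field L] (p : L[X]) (a : L) (m : ℕ) :
    (X - C a) ^ m ∣ p ↔ ∀ l < m, (taylor a p).coeff l = 0 := by
  rw [← X_pow_dvd_iff]
  constructor
  · rintro ⟨u, rfl⟩
    rw [taylor_mul, taylor_pow, map_sub, taylor_X, taylor_C, add_sub_cancel_right]
    exact dvd_mul_right _ _
  · rintro ⟨u, hu⟩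
    refine ⟨taylor (-a) u, ?_⟩
    have := congrArg (taylor (-a)) hu
    rw [taylor_taylor, neg_add_cancel, taylor_zero, taylor_mul, taylor_pow, taylor_X, map_neg, ← sub_eq_add_neg] at this
    exact this

/-- Ramification data allowing unramified points. -/
def Admissible1 (p d : ℕ) {n : ℕ} (e : Fin n → ℕ) : Prop :=
  (∀ i, 1 ≤ e i ∧ ¬ p ∣ e i) ∧ (∑ i, e i) + 2 = 2 * d + n

theorem admissible1_of (p d : ℕ) {e : Fin n → ℕ} (he : Admissible p d e) : Admissible1 p d e :=
  ⟨fun i => ⟨by have := (he.1 i).1; omega, (he.1 i).2.2⟩, he.2⟩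

variable [IsAlgClosed k] {p : ℕ} [CharP k p] {e : Fin n → ℕ}

theorem sum_sub_one (he : Admissible1 p d e) : (∑ i, (e i - 1)) = 2 * d - 2 ∧ 1 ≤ d := by
  have h1 : ∑ i, (e i - 1) + n = ∑ i, e i := by
    have : ∑ i, (e i - 1) + ∑ _i : Fin n, 1 = ∑ i, e i := by
      rw [← Finset.sum_add_distrib]
      exact Finset.sum_congr rfl fun i _ => Nat.sub_add_cancel (he.1 i).1
    simpa using this
  have := he.2
  have h2 : n * 1 ≤ ∑ i, e i := by
    simpa using Finset.card_nsmul_le_sum (Finset.univ : Finset (Fin n)) e 1 (fun i _ => (he.1 i).1)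
  omega

/-- The parameters of the maps with given ramification. -/
def Sol (k : Type u) [Field k] (d n : ℕ) (e : Fin n → ℕ) : Set (Var d n → k) :=
  {v | Function.Injective (fun i => v (Sum.inl i)) ∧
    Submodule.span k {FF v, GG v} ∈ ramMaps d (fun i => v (Sum.inl i)) e}

theorem exists_param (he : Admissible1 p d e) {P : Fin n → k} (hP : Function.Injective P)
    {V : Submodule k k[X]} (hV : V ∈ ramMaps d P e) :
    ∃ v ∈ Sol k d n e, (fun i => v (Sum.inl i)) = P ∧ V = Submodule.span k {FF v, GG v} := by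
  classical
  obtain ⟨⟨hVle, hV2, ⟨s, hsV, hsd⟩, hbp⟩, hsep, hram⟩ := id hV
  obtain ⟨hsum, hd⟩ := sum_sub_one he
  haveI : Module.Finite k V := Module.finite_of_finrank_eq_succ hV2
  have hle : ∀ q ∈ V, q.natDegree ≤ d := fun q hq => natDegree_le_of_degree_le (mem_degreeLE.1 (hVle hq))
  have hs0 : s ≠ 0 := fun h => by rw [h, natDegree_zero] at hsd; omega
  obtain ⟨u, huV, hu⟩ : ∃ u ∈ V, u ∉ Submodule.span k {s} := by
    by_contra h
    push_neg at h
    have := Submodule.finrank_mono (show V ≤ Submodule.span k {s} from h)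
    rw [hV2, finrank_span_singleton hs0] at this
    omega
  have hls : s.coeff d ≠ 0 := by
    rw [← hsd, coeff_natDegree]; exact leadingCoeff_ne_zero.2 hs0
  let g := u - (u.coeff d / s.coeff d) • s
  have hgV : g ∈ V := V.sub_mem huV (V.smul_mem _ hsV)
  have hg0 : g ≠ 0 := fun h => hu (by
    rw [sub_eq_zero.1 h]; exact Submodule.smul_mem _ _ (Submodule.mem_span_singleton_self s))
  have hgtop : g.coeff d = 0 := by simp [g, coeff_smul, hls]
  let F1 := (s.coeff d)⁻¹ • s
  let G := g.leadingCoeff⁻¹ • g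
  have hGV : G ∈ V := V.smul_mem _ hgV
  have hglt : g.natDegree < d := by
    rcases lt_or_eq_of_le (hle g hgV) with h | h
    · exact h
    · exact absurd hgtop (by rw [← h, coeff_natDegree]; exact leadingCoeff_ne_zero.2 hg0)
  have hGm : G.Monic := by
    show (g.leadingCoeff⁻¹ • g).Monic
    rw [smul_eq_C_mul]; exact monic_C_mul_of_mul_leadingCoeff_eq_one (inv_mul_cancel₀ (leadingCoeff_ne_zero.2 hg0))
  have hGdeg : G.natDegree = g.natDegree := natDegree_smul _ (inv_ne_zero (leadingCoeff_ne_zero.2 hg0))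
  have hli : ∀ x y : k, x • F1 + y • G = 0 → x = 0 ∧ y = 0 := by
    intro x y h
    have h1 := congrArg (coeff · d) h
    simp only [F1, coeff_add, coeff_smul, coeff_eq_zero_of_natDegree_lt (hGdeg ▸ hglt), smul_eq_mul, mul_zero,
      add_zero, coeff_zero, inv_mul_cancel₀ hls, mul_one] at h1
    subst h1
    simp only [zero_smul, zero_add, smul_eq_zero] at h
    exact ⟨rfl, h.resolve_right hGm.ne_zero⟩
  have hspan : Submodule.span k {F1, G} = V := by
    refine Submodule.eq_of_le_of_finrank_eq (Submodule.span_le.2 (by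
      rintro _ (rfl | rfl); exacts [V.smul_mem _ hsV, hGV])) ?_
    have hind : LinearIndependent k ![F1, G] := LinearIndependent.pair_iff.2 hli
    have := finrank_span_eq_card hind
    rw [Matrix.range_cons, Matrix.range_cons, Matrix.range_empty, Set.union_empty, Set.singleton_union,
      Fintype.card_fin] at this
    rw [this, hV2]
  -- the Wronskian has full degree
  have hW0 : wronskian F1 G ≠ 0 := by
    obtain ⟨A, hA, B, hB, hAB⟩ := hsep
    intro hW
    obtain ⟨a, b, rfl⟩ := Submodule.mem_span_pair.1 (hspan.symm ▸ hA)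
    obtain ⟨a', b', rfl⟩ := Submodule.mem_span_pair.1 (hspan.symm ▸ hB)
    refine hAB ?_
    have e1 : wronskian (a • F1 + b • G) (a' • F1 + b' • G) = C (a * b' - b * a') * wronskian F1 G := by
      simp only [wronskian, smul_eq_C_mul, derivative_add, derivative_mul, derivative_C, map_sub, map_mul]
      ring
    rw [e1, hW, mul_zero]
  have hF1deg : F1.natDegree ≤ d := hle _ (V.smul_mem _ hsV)
  have hm : G.natDegree = d - 1 := by
    have h1 : ramPoly e P ∣ wronskian F1 G :=
      ramPoly_dvd hP fun i => Groth.Agent.S13929.dvd_wronskian hspan (hram i).1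
    have h2 := natDegree_le_of_dvd h1 hW0
    rw [natDegree_ramPoly, hsum] at h2
    have h3 := natDegree_wronskian_lt_add hW0
    rw [hGdeg] at h3 ⊢
    omega
  let F := F1 - F1.coeff (d - 1) • G
  let v : Var d n → k := Sum.elim P (Sum.elim (fun j => F.coeff j.1) (fun j => G.coeff j.1))
  have hGd1 : G.coeff (d - 1) = 1 := by rw [← hm]; exact hGm.coeff_natDegree
  have hFv : FF v = F := by
    ext j
    simp only [FF, polyF, coeff_add, coeff_X_pow, coeff_lowPart, v, Sum.elim_inr, Sum.elim_inl]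
    rcases (by omega : j < d - 1 ∨ j = d - 1 ∨ j = d ∨ d < j) with h | h | h | h
    · rw [dif_pos h, if_neg (by omega), zero_add]
    · subst h
      rw [dif_neg (lt_irrefl _), if_neg (by omega)]
      simp [F, coeff_smul, hGd1]
    · rw [dif_neg (by omega), if_pos h, h]
      simp [F, F1, coeff_smul, coeff_eq_zero_of_natDegree_lt (show G.natDegree < d by omega), hls]
    · rw [dif_neg (by omega), if_neg (by omega)]
      simp [F, coeff_eq_zero_of_natDegree_lt (show F1.natDegree < j by omega),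
        coeff_eq_zero_of_natDegree_lt (show G.natDegree < j by omega), coeff_smul]
  have hGv : GG v = G := by
    ext j
    simp only [GG, polyG, coeff_add, coeff_X_pow, coeff_lowPart, v, Sum.elim_inr]
    rcases (by omega : j < d - 1 ∨ j = d - 1 ∨ d - 1 < j) with h | h | h
    · rw [dif_pos h, if_neg (by omega), zero_add]
    · subst h
      rw [dif_neg (lt_irrefl _), if_pos rfl, hGd1, add_zero]
    · rw [dif_neg (by omega), if_neg (by omega), coeff_eq_zero_of_natDegree_lt (hm ▸ h), add_zero]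
  have hVspan : V = Submodule.span k {FF v, GG v} := by
    rw [hFv, hGv, ← hspan]
    refine le_antisymm (Submodule.span_le.2 ?_) (Submodule.span_le.2 ?_)
    · rintro _ (rfl | rfl)
      · exact Submodule.mem_span_pair.2 ⟨1, F1.coeff (d - 1), by simp [F]⟩
      · exact Submodule.subset_span (Or.inr rfl)
    · rintro _ (rfl | rfl)
      · exact Submodule.mem_span_pair.2 ⟨1, -F1.coeff (d - 1), by simp [F, sub_eq_add_neg]⟩
      · exact Submodule.subset_span (Or.inr rfl)
  refine ⟨v, ⟨?_, ?_⟩, rfl, hVspan⟩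
  · exact hP
  · show Submodule.span k {FF v, GG v} ∈ ramMaps d P e
    rwa [← hVspan]

theorem Sol.spec (he : Admissible1 p d e) {v : Var d n → k} (hv : v ∈ Sol k d n e) :
    (∀ i, (∀ l < e i, tcoef v i l = 0) ∧ tcoef v i (e i) ≠ 0) ∧
      (wronskian (FF v) (GG v)).coeff (2 * d - 2) ≠ 0 := by
  obtain ⟨hinj, ⟨-, -, -, hbp⟩, hsep, hram⟩ := hv
  obtain ⟨hsum, hd⟩ := sum_sub_one he
  obtain ⟨hFm, hFd, -, -⟩ := polyF_spec hd fun j => v (Sum.inr (Sum.inl j))
  obtain ⟨hGm, hGd, -⟩ := polyG_spec (d := d) fun j => v (Sum.inr (Sum.inr j))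
  refine ⟨fun i => ?_, ?_⟩
  · obtain ⟨⟨s, hs, hs0, hse⟩, hmax⟩ := hram i
    obtain ⟨α, β, rfl⟩ := Submodule.mem_span_pair.1 hs
    set a := v (Sum.inl i) with ha
    have hsa : α * (FF v).eval a + β * (GG v).eval a = 0 := by
      have hd1 : X - C a ∣ α • FF v + β • GG v :=
        (dvd_pow_self _ (by have := (he.1 i).1; omega)).trans ((le_rootMultiplicity_iff hs0).1 hse)
      simpa [smul_eq_C_mul] using dvd_iff_isRoot.1 hd1
    have hne : (FF v).eval a ≠ 0 ∨ (GG v).eval a ≠ 0 := by
      obtain ⟨t, ht, hta⟩ := hbp a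
      obtain ⟨x, y, rfl⟩ := Submodule.mem_span_pair.1 ht
      by_contra hne
      push_neg at hne
      exact hta (by simp [smul_eq_C_mul, hne.1, hne.2])
    have hTmem : TT v i ∈ Submodule.span k {FF v, GG v} :=
      Submodule.mem_span_pair.2 ⟨(GG v).eval a, -(FF v).eval a, by simp [TT, smul_eq_C_mul, a]⟩
    have hT0 : TT v i ≠ 0 := by
      intro h0
      have h1 := congrArg (coeff · d) h0
      simp only [TT, coeff_add, coeff_C_mul, coeff_zero] at h1
      rw [show (FF v).coeff d = 1 by
          have h2 : (FF v).Monic := hFm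
          have h3 : (FF v).natDegree = d := hFd
          have h4 := h2.coeff_natDegree
          rwa [h3] at h4,
        coeff_eq_zero_of_natDegree_lt (show (GG v).natDegree < d by rw [GG, hGd]; omega)] at h1
      simp only [mul_one, mul_zero, add_zero] at h1
      rcases hne with hF | hG
      · have h2 : C (-(FF v).eval a) * GG v = 0 := by
          have h3 := h0
          rw [show TT v i = C ((GG v).eval a) * FF v + C (-(FF v).eval a) * GG v from rfl, h1, map_zero, zero_mul,
            zero_add] at h3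
          exact h3
        exact hF (by simpa using (mul_eq_zero.1 h2).resolve_right (show GG v ≠ 0 from hGm.ne_zero))
      · exact hG h1
    obtain ⟨μ, hμ0, hμ⟩ : ∃ μ : k, μ ≠ 0 ∧ α • FF v + β • GG v = μ • TT v i := by
      rcases hne with hF | hG
      · refine ⟨-β / (FF v).eval a, ?_, ?_⟩
        · refine div_ne_zero (neg_ne_zero.2 fun hb => hs0 ?_) hF
          subst hb
          have : α = 0 := by simpa [hF] using hsa
          simp [this]
        · simp only [TT, smul_eq_C_mul, ← ha, mul_add, ← mul_assoc, ← map_mul]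
          congr 2
          · congr 1; field_simp; linear_combination hsa
          · congr 1; field_simp
      · refine ⟨α / (GG v).eval a, ?_, ?_⟩
        · refine div_ne_zero (fun hb => hs0 ?_) hG
          subst hb
          have : β = 0 := by simpa [hG] using hsa
          simp [this]
        · simp only [TT, smul_eq_C_mul, ← ha, mul_add, ← mul_assoc, ← map_mul]
          congr 2
          · congr 1; field_simp
          · congr 1; field_simp; linear_combination hsa
    have hmult : rootMultiplicity a (TT v i) = e i := by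
      refine le_antisymm (hmax _ hTmem hT0) ?_
      have := (le_rootMultiplicity_iff hs0).1 hse
      rw [hμ, smul_eq_C_mul] at this
      exact (le_rootMultiplicity_iff hT0).2 ((IsUnit.dvd_mul_left (isUnit_C.2 (IsUnit.mk0 _ hμ0))).1 this)
    have h1 : (X - C a) ^ e i ∣ TT v i := hmult ▸ pow_rootMultiplicity_dvd _ _
    have h2 : ¬ (X - C a) ^ (e i + 1) ∣ TT v i := fun h => by
      have := (le_rootMultiplicity_iff hT0).2 h
      omega
    refine ⟨(pow_dvd_iff_taylor _ _ _).1 h1, fun h0 => h2 ((pow_dvd_iff_taylor _ _ _).2 fun l hl => ?_)⟩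
    rcases (by omega : l < e i ∨ l = e i) with hl | rfl
    · exact (pow_dvd_iff_taylor _ _ _).1 h1 l hl
    · exact h0
  · have hW0 : wronskian (FF v) (GG v) ≠ 0 := by
      obtain ⟨A, hA, B, hB, hAB⟩ := hsep
      intro hW
      obtain ⟨a, b, rfl⟩ := Submodule.mem_span_pair.1 hA
      obtain ⟨a', b', rfl⟩ := Submodule.mem_span_pair.1 hB
      refine hAB ?_
      have e1 : wronskian (a • FF v + b • GG v) (a' • FF v + b' • GG v) =
          C (a * b' - b * a') * wronskian (FF v) (GG v) := by
        simp only [wronskian, smul_eq_C_mul, derivative_add, derivative_mul, derivative_C, map_sub, map_mul]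
        ring
      rw [e1, hW, mul_zero]
    have h1 : ramPoly e (fun i => v (Sum.inl i)) ∣ wronskian (FF v) (GG v) :=
      ramPoly_dvd hinj fun i => Groth.Agent.S13929.dvd_wronskian rfl (hram i).1
    have h2 := natDegree_le_of_dvd h1 hW0
    rw [natDegree_ramPoly, hsum] at h2
    have h3 := natDegree_wronskian_lt_add hW0
    have hFd' : (FF v).natDegree = d := hFd
    have hGd' : (GG v).natDegree = d - 1 := hGd
    rw [← le_antisymm (by omega : (wronskian (FF v) (GG v)).natDegree ≤ 2 * d - 2) h2, coeff_natDegree]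
    exact leadingCoeff_ne_zero.2 hW0

/-- Evaluation at parameters. -/
theorem aeval_tcoef {L : Type u} [CommRing L] [Algebra k L] (v : Var d n → L) (i : Fin n) (l : ℕ) :
    MvPolynomial.aeval v (tcoef (MvPolynomial.X (R := k)) i l) = tcoef v i l := by
  rw [← AlgHom.coe_toRingHom, map_tcoef]
  simp

/-- A polynomial without zeros among the parameters lies in no minimal prime of their ideal. -/
theorem notMem_of_forall_ne {φ : MvPolynomial (Var d n) k} (h : ∀ v ∈ Sol k d n e, MvPolynomial.aeval v φ ≠ 0)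
    {𝔭 : Ideal (MvPolynomial (Var d n) k)}
    (h𝔭 : 𝔭 ∈ (MvPolynomial.vanishingIdeal k (Sol k d n e)).minimalPrimes) : φ ∉ 𝔭 := by
  intro hφ
  obtain ⟨y, hy, hxy⟩ := Ideal.exists_mul_mem_of_mem_minimalPrimes h𝔭 hφ
  refine hy (MvPolynomial.mem_vanishingIdeal_iff.2 fun v hv => ?_)
  have := MvPolynomial.mem_vanishingIdeal_iff.1 hxy v hv
  rw [map_mul] at this
  exact (mul_eq_zero.1 this).resolve_left (h v hv)

/-- A field containing a quotient by a prime as a ring of generators. -/
theorem exists_genericField {σ : Type} [Finite σ] (𝔭 : Ideal (MvPolynomial σ k)) [𝔭.IsPrime] :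
    ∃ (K : Type u) (_ : Field K) (_ : Algebra k K) (_ : Algebra.EssFiniteType k K) (φ : MvPolynomial σ k →ₐ[k] K),
      (∀ x, φ x = 0 ↔ x ∈ 𝔭) ∧ ∀ z : K, ∃ a b, φ b ≠ 0 ∧ z * φ b = φ a := by
  refine ⟨FractionRing (MvPolynomial σ k ⧸ 𝔭), inferInstance, inferInstance,
    Algebra.EssFiniteType.comp k (MvPolynomial σ k ⧸ 𝔭) _,
    (IsScalarTower.toAlgHom k (MvPolynomial σ k ⧸ 𝔭) _).comp (Ideal.Quotient.mkₐ k 𝔭), fun x => ?_, fun z => ?_⟩
  · exact (map_eq_zero_iff _ (IsFractionRing.injective (MvPolynomial σ k ⧸ 𝔭) _)).trans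
      Ideal.Quotient.eq_zero_iff_mem
  · obtain ⟨a, b, hb, hz⟩ := IsFractionRing.div_surjective (A := MvPolynomial σ k ⧸ 𝔭) z
    obtain ⟨a, rfl⟩ := Ideal.Quotient.mk_surjective a
    obtain ⟨b, rfl⟩ := Ideal.Quotient.mk_surjective b
    have hb0 := IsFractionRing.to_map_ne_zero_of_mem_nonZeroDivisors (K := FractionRing (MvPolynomial σ k ⧸ 𝔭)) hb
    exact ⟨a, b, hb0, by rw [← hz]; exact div_mul_cancel₀ _ hb0⟩

/-- The data at the generic point of a component. -/
theorem ramData_of_minimalPrime (he : Admissible1 p d e) {𝔭 : Ideal (MvPolynomial (Var d n) k)}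
    (h𝔭 : 𝔭 ∈ (MvPolynomial.vanishingIdeal k (Sol k d n e)).minimalPrimes)
    {K : Type u} [Field K] [Algebra k K] (φ : MvPolynomial (Var d n) k →ₐ[k] K) (hφ : ∀ x, φ x = 0 ↔ x ∈ 𝔭)
    (hfrac : ∀ z : K, ∃ a b, φ b ≠ 0 ∧ z * φ b = φ a) :
    RamData k K d n e (FF fun s => φ (MvPolynomial.X s)) (GG fun s => φ (MvPolynomial.X s))
      (fun i => φ (Pu k d n i)) := by
  let vK : Var d n → K := fun s => φ (MvPolynomial.X s)
  have hae : (MvPolynomial.aeval vK : MvPolynomial (Var d n) k →ₐ[k] K) = φ :=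
    MvPolynomial.algHom_ext fun s => MvPolynomial.aeval_X _ _
  have hopen : ∀ x : MvPolynomial (Var d n) k, (∀ v ∈ Sol k d n e, MvPolynomial.aeval v x ≠ 0) → φ x ≠ 0 :=
    fun x hx h0 => notMem_of_forall_ne hx h𝔭 ((hφ x).1 h0)
  obtain ⟨hsum, hd⟩ := sum_sub_one he
  obtain ⟨hFm, hFd, hFc, hFj⟩ := polyF_spec hd fun j => vK (Sum.inr (Sum.inl j))
  obtain ⟨hGm, hGd, hGj⟩ := polyG_spec (d := d) fun j => vK (Sum.inr (Sum.inr j))
  have hzero : ∀ i, ∀ l < e i, tcoef vK i l = 0 := fun i l hl => by
    rw [← aeval_tcoef (k := k), hae, hφ]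
    refine h𝔭.1.2 (MvPolynomial.mem_vanishingIdeal_iff.2 fun v hv => ?_)
    rw [aeval_tcoef]
    exact ((Sol.spec he hv).1 i).1 l hl
  refine
    { one_le := hd
      monF := hFm
      degF := hFd
      coeffF := hFc
      monG := hGm
      degG := hGd
      inj := ?_
      pos := fun i => (he.1 i).1
      cast_ne := fun i h0 => (he.1 i).2 ?_
      sum_eq := hsum
      wr_ne := ?_
      dvd := fun i => (pow_dvd_iff_taylor _ _ _).2 (hzero i)
      not_dvd := fun i hdvd => ?_
      gen := ?_ }
  · intro i j hij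
    by_contra hne
    refine hopen (Pu k d n i - Pu k d n j) (fun v hv h0 => hne (hv.1 ?_)) (by rw [map_sub, sub_eq_zero]; exact hij)
    simpa [sub_eq_zero] using h0
  · rw [← map_natCast (algebraMap k K), map_eq_zero] at h0
    exact (CharP.cast_eq_zero_iff k p _).1 h0
  · intro h0
    refine hopen ((wronskian (FF MvPolynomial.X) (GG MvPolynomial.X)).coeff (2 * d - 2)) (fun v hv h1 => ?_) ?_
    · refine (Sol.spec he hv).2 ?_
      rw [← h1, ← AlgHom.coe_toRingHom, ← coeff_map]
      simp [wronskian, Polynomial.map_sub, Polynomial.map_mul, ← derivative_map, FF, GG, map_polyF, map_polyG]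
    · rw [← hae, ← AlgHom.coe_toRingHom, ← coeff_map,
        show (wronskian (FF MvPolynomial.X) (GG MvPolynomial.X)).map ((↑(MvPolynomial.aeval vK : MvPolynomial (Var d n) k →ₐ[k] K)) : MvPolynomial (Var d n) k →+* K) =
          wronskian (FF vK) (GG vK) by
            simp [wronskian, Polynomial.map_sub, Polynomial.map_mul, ← derivative_map, FF, GG, map_polyF, map_polyG]]
      exact (congrArg (coeff · (2 * d - 2)) h0).trans (coeff_zero _)
  · refine hopen (tcoef MvPolynomial.X i (e i)) (fun v hv h0 => ((Sol.spec he hv).1 i).2 ?_) ?_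
    · rwa [aeval_tcoef] at h0
    · rw [← hae, aeval_tcoef]
      exact (pow_dvd_iff_taylor _ _ _).1 hdvd _ (Nat.lt_succ_self _)
  · intro D hP hF hG
    have hX : ∀ s, D (vK s) = 0 := by
      rintro (i | j | j)
      · exact hP i
      · rw [← hFj j, ← coeff_Dc]
        exact (congrArg (coeff · j.1) hF).trans (coeff_zero _)
      · rw [← hGj j, ← coeff_Dc]
        exact (congrArg (coeff · j.1) hG).trans (coeff_zero _)
    have hA : ∀ x : MvPolynomial (Var d n) k, D (φ x) = 0 := by
      intro x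
      induction x using MvPolynomial.induction_on with
      | C c => rw [← MvPolynomial.algebraMap_eq, AlgHom.commutes, D.map_algebraMap]
      | add a b ha hb => rw [map_add, map_add, ha, hb, add_zero]
      | mul_X a s ha => rw [map_mul, D.leibniz, ha, hX s, smul_zero, smul_zero, add_zero]
    refine Derivation.ext fun z => ?_
    obtain ⟨a, b, hb0, hz⟩ := hfrac z
    have h1 := congrArg D hz
    rw [D.leibniz, hA, hA, smul_zero, zero_add, smul_eq_mul, mul_eq_zero] at h1
    simpa using h1.resolve_left hb0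

/-- An element of a component algebraic over the points satisfies a polynomial relation. -/
theorem exists_relation {K : Type u} [Field K] [Algebra k K] {P : Fin n → K} (hind : AlgebraicIndependent k P)
    (htr : Algebra.trdeg k K ≤ (n : Cardinal.{u})) (z : K) :
    ∃ Q : (MvPolynomial (Fin n) k)[X], Q ≠ 0 ∧ eval₂ (MvPolynomial.aeval P).toRingHom z Q = 0 := by
  have halg : IsAlgebraic (Algebra.adjoin k (Set.range P)) z := by
    by_contra htrans
    have := AlgebraicIndependent.lift_cardinalMk_le_trdeg ((hind.option_iff_transcendental z).2 htrans)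
    simp only [Cardinal.mk_option, Cardinal.mk_fin, Cardinal.lift_add, Cardinal.lift_natCast, Cardinal.lift_one,
      Cardinal.lift_uzero] at this
    have h2 := this.trans htr
    norm_cast at h2
    omega
  obtain ⟨Q, hQ0, hQ⟩ := halg
  refine ⟨Q.map hind.aevalEquiv.symm.toAlgHom.toRingHom, fun h0 => hQ0 ?_, ?_⟩
  · exact map_injective hind.aevalEquiv.symm.toAlgHom.toRingHom hind.aevalEquiv.symm.injective
      (h0.trans (Polynomial.map_zero _).symm)
  rw [eval₂_map, ← hQ, aeval_def]
  congr 1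
  refine RingHom.ext fun x => ?_
  show MvPolynomial.aeval P (hind.aevalEquiv.symm x) = (x : K)
  conv_rhs => rw [← hind.aevalEquiv.apply_symm_apply x]
  exact (hind.algebraMap_aevalEquiv _).symm

/-- The exceptional polynomial of a component. -/
theorem exists_bound (he : Admissible1 p d e) {𝔭 : Ideal (MvPolynomial (Var d n) k)}
    (h𝔭 : 𝔭 ∈ (MvPolynomial.vanishingIdeal k (Sol k d n e)).minimalPrimes) :
    ∃ Φ : MvPolynomial (Fin n) k, Φ ≠ 0 ∧ ∀ P : Fin n → k, MvPolynomial.eval P Φ ≠ 0 →
      {v : Var d n → k | (fun i => v (Sum.inl i)) = P ∧ 𝔭 ≤ RingHom.ker (MvPolynomial.aeval v)}.Finite ∧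
      ∀ v : Var d n → k, (fun i => v (Sum.inl i)) = P → 𝔭 ≤ RingHom.ker (MvPolynomial.aeval v) →
        ∀ i j : Fin n, i ≠ j →
          (GG v).eval (P i) * (FF v).eval (P j) ≠ (GG v).eval (P j) * (FF v).eval (P i) := by
  classical
  haveI := h𝔭.isPrime
  obtain ⟨K, _, _, _, φ, hφ, hfrac⟩ := exists_genericField 𝔭
  let A := MvPolynomial (Var d n) k
  let ren : MvPolynomial (Fin n) k →ₐ[k] A := MvPolynomial.rename Sum.inl
  have hev : ∀ (v : Var d n → k) (Q : MvPolynomial (Fin n) k), 𝔭 ≤ RingHom.ker (MvPolynomial.aeval v) →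
      ren Q ∈ 𝔭 → MvPolynomial.eval (fun i => v (Sum.inl i)) Q = 0 := fun v Q hv hQ => by
    have := hv hQ
    rw [RingHom.mem_ker, MvPolynomial.aeval_rename] at this
    exact this
  by_cases hdom : ∃ Q, Q ≠ 0 ∧ ren Q ∈ 𝔭
  · obtain ⟨Q, hQ0, hQ⟩ := hdom
    refine ⟨Q, hQ0, fun P hP => ⟨?_, fun v hvP hv => absurd (hvP ▸ hev v Q hv hQ) hP⟩⟩
    convert Set.finite_empty
    rw [Set.eq_empty_iff_forall_notMem]
    rintro v ⟨hvP, hv⟩
    exact hP (hvP ▸ hev v Q hv hQ)
  push_neg at hdom
  let PK : Fin n → K := fun i => φ (Pu k d n i)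
  have hPren : ∀ Q, MvPolynomial.aeval PK Q = φ (ren Q) := fun Q => by
    exact (congrFun (congrArg DFunLike.coe (MvPolynomial.algHom_ext (f := (MvPolynomial.aeval PK))
      (g := φ.comp ren) fun i => by simp [PK, ren, Pu])) Q)
  have hind : AlgebraicIndependent k PK := algebraicIndependent_iff.2 fun Q hQ => by
    by_contra hQ0
    exact hdom Q hQ0 ((hφ _).1 (hPren Q ▸ hQ))
  have hdata := ramData_of_minimalPrime he h𝔭 φ hφ hfrac
  -- relations
  choose Q hQ0 hQ using fun z : A => exists_relation hind hdata.trdeg_le (φ z)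
  have hQ' : ∀ z, φ (eval₂ ren.toRingHom z (Q z)) = 0 := fun z => by
    refine Eq.trans ?_ (hQ z)
    rw [← AlgHom.coe_toRingHom φ, hom_eval₂]
    exact congrArg (eval₂ · (φ z) (Q z)) (RingHom.ext fun x => (hPren x).symm)
  let σ : Fin n → Fin n → A := fun i j =>
    (GG MvPolynomial.X).eval (Pu k d n i) * (FF MvPolynomial.X).eval (Pu k d n j) -
      (GG MvPolynomial.X).eval (Pu k d n j) * (FF MvPolynomial.X).eval (Pu k d n i)
  have hσ : ∀ {L : Type u} [CommRing L] [Algebra k L] (v : Var d n → L) (i j : Fin n),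
      MvPolynomial.aeval v (σ i j) = (GG v).eval (v (Sum.inl i)) * (FF v).eval (v (Sum.inl j)) -
        (GG v).eval (v (Sum.inl j)) * (FF v).eval (v (Sum.inl i)) := by
    intro L _ _ v i j
    simp only [σ, map_sub, map_mul, ← AlgHom.coe_toRingHom, ← eval_map_apply]
    simp [FF, GG, map_polyF, map_polyG, Pu]
  have hσ0 : ∀ i j : Fin n, i ≠ j → φ (σ i j) ≠ 0 := by
    intro i j hij h0
    have hlt := hdata.trdeg_lt hij (by
      have h1 := hσ (fun s => φ (MvPolynomial.X s)) i j
      rw [show (MvPolynomial.aeval fun s => φ (MvPolynomial.X s) : A →ₐ[k] K) = φ from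
        MvPolynomial.algHom_ext fun s => by simp, h0] at h1
      exact sub_eq_zero.1 h1.symm)
    have hle := AlgebraicIndependent.lift_cardinalMk_le_trdeg hind
    simp only [Cardinal.mk_fin, Cardinal.lift_natCast, Cardinal.lift_uzero] at hle
    exact (hle.trans_lt hlt).false
  -- the constant term of the relation of an invertible element
  have hconst : ∀ z : A, φ z ≠ 0 → ∃ c : MvPolynomial (Fin n) k, c ≠ 0 ∧
      ∀ v : Var d n → k, 𝔭 ≤ RingHom.ker (MvPolynomial.aeval v) → MvPolynomial.aeval v z = 0 →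
        MvPolynomial.eval (fun i => v (Sum.inl i)) c = 0 := by
    intro z hz
    obtain ⟨q, hq, hnd⟩ := exists_eq_pow_rootMultiplicity_mul_and_not_dvd (Q z) (hQ0 z) 0
    rw [map_zero, sub_zero, X_dvd_iff] at hnd
    refine ⟨q.coeff 0, hnd, fun v hv hvz => ?_⟩
    have h1 : φ (eval₂ ren.toRingHom z q) = 0 := by
      have h2 := hQ' z
      rw [hq, map_zero, sub_zero, eval₂_mul, eval₂_X_pow, map_mul, map_pow, mul_eq_zero] at h2
      exact h2.resolve_left (pow_ne_zero _ hz)
    have h3 := hv ((hφ _).1 h1)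
    rw [RingHom.mem_ker, ← AlgHom.coe_toRingHom, hom_eval₂] at h3
    simp only [RingHom.coe_coe, AlgHom.toRingHom_eq_coe, hvz, eval₂_at_zero] at h3
    rw [← h3]
    exact (MvPolynomial.aeval_rename _ _ _).symm
  choose c hc0 hc using hconst
  refine ⟨(∏ s : Var d n, (Q (MvPolynomial.X s)).leadingCoeff) *
      ∏ x : {x : Fin n × Fin n // x.1 ≠ x.2}, c (σ x.1.1 x.1.2) (hσ0 _ _ x.2), ?_, fun P hP => ?_⟩
  · exact mul_ne_zero (Finset.prod_ne_zero_iff.2 fun s _ => leadingCoeff_ne_zero.2 (hQ0 _))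
      (Finset.prod_ne_zero_iff.2 fun x _ => hc0 _ _)
  rw [map_mul, map_prod, map_prod, mul_ne_zero_iff, Finset.prod_ne_zero_iff, Finset.prod_ne_zero_iff] at hP
  refine ⟨?_, fun v hvP hv i j hij h0 => hP.2 ⟨(i, j), hij⟩ (Finset.mem_univ _) (hvP ▸ hc _ _ v hv ?_)⟩
  · refine (Set.Finite.pi (t := fun s : Var d n => {y : k | ((Q (MvPolynomial.X s)).map (MvPolynomial.eval P)).IsRoot y})
      fun s => finite_setOf_isRoot fun h0 => hP.1 s (Finset.mem_univ _) ?_).subset ?_
    · have := congrArg (coeff · (Q (MvPolynomial.X s)).natDegree) h0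
      simpa [coeff_map] using this
    · rintro v ⟨hvP, hv⟩ s -
      show ((Q (MvPolynomial.X s)).map (MvPolynomial.eval P)).IsRoot (v s)
      have h3 := hv ((hφ _).1 (hQ' (MvPolynomial.X s)))
      rw [RingHom.mem_ker, ← AlgHom.coe_toRingHom, hom_eval₂] at h3
      rw [IsRoot, eval_map, ← h3]
      congr 1
      · refine RingHom.ext fun x => ?_
        subst hvP
        exact (MvPolynomial.aeval_rename _ _ _).symm
      · simp
  · rw [hσ, sub_eq_zero]
    subst hvP
    exact h0

/-- For general points there are finitely many maps and the branch values are distinct. -/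
theorem exists_good (he : Admissible1 p d e) :
    ∃ Φ : MvPolynomial (Fin n) k, Φ ≠ 0 ∧ ∀ P : Fin n → k, MvPolynomial.eval P Φ ≠ 0 →
      (ramMaps d P e).Finite ∧
        ∀ V ∈ ramMaps d P e, ∀ i j : Fin n, i ≠ j →
          ∀ s ∈ V, (s.IsRoot (P i) ∧ s.IsRoot (P j)) → s = 0 := by
  classical
  let J := MvPolynomial.vanishingIdeal k (Sol k d n e)
  haveI : Finite J.minimalPrimes := J.finite_minimalPrimes_of_isNoetherianRing.to_subtype
  haveI := Fintype.ofFinite J.minimalPrimes
  choose Φ hΦ0 hΦ using fun 𝔭 : J.minimalPrimes => exists_bound he 𝔭.2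
  let Δ : MvPolynomial (Fin n) k := ∏ x : {x : Fin n × Fin n // x.1 ≠ x.2},
    (MvPolynomial.X x.1.1 - MvPolynomial.X x.1.2)
  refine ⟨Δ * ∏ 𝔭, Φ 𝔭, mul_ne_zero (Finset.prod_ne_zero_iff.2 fun x _ => sub_ne_zero.2 fun h => x.2
    (MvPolynomial.X_injective h)) (Finset.prod_ne_zero_iff.2 fun 𝔭 _ => hΦ0 𝔭), fun P hP => ?_⟩
  rw [map_mul, map_prod, map_prod, mul_ne_zero_iff, Finset.prod_ne_zero_iff, Finset.prod_ne_zero_iff] at hP
  have hPinj : Function.Injective P := fun i j hij => by
    by_contra hne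
    exact hP.1 ⟨(i, j), hne⟩ (Finset.mem_univ _) (by simp [hij])
  have hcover : ∀ V ∈ ramMaps d P e, ∃ (𝔭 : J.minimalPrimes) (v : Var d n → k),
      (fun i => v (Sum.inl i)) = P ∧ 𝔭.1 ≤ RingHom.ker (MvPolynomial.aeval v) ∧
      V = Submodule.span k {FF v, GG v} := by
    intro V hV
    obtain ⟨v, hv, hvP, hVv⟩ := exists_param he hPinj hV
    haveI : (RingHom.ker (MvPolynomial.aeval v : MvPolynomial (Var d n) k →ₐ[k] k)).IsPrime := RingHom.ker_isPrime _
    obtain ⟨𝔭, h𝔭, hle⟩ := Ideal.exists_minimalPrimes_le (I := J)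
      (J := RingHom.ker (MvPolynomial.aeval v : MvPolynomial (Var d n) k →ₐ[k] k))
      (fun x hx => MvPolynomial.mem_vanishingIdeal_iff.1 hx v hv)
    exact ⟨⟨𝔭, h𝔭⟩, v, hvP, hle, hVv⟩
  refine ⟨?_, fun V hV i j hij s hs ⟨hsi, hsj⟩ => ?_⟩
  · refine (Set.finite_iUnion fun 𝔭 : J.minimalPrimes =>
      ((hΦ 𝔭 P (hP.2 𝔭 (Finset.mem_univ _))).1.image fun v => Submodule.span k {FF v, GG v})).subset ?_
    intro V hV
    obtain ⟨𝔭, v, hvP, hle, hVv⟩ := hcover V hV
    exact Set.mem_iUnion.2 ⟨𝔭, v, ⟨hvP, hle⟩, hVv.symm⟩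
  · obtain ⟨𝔭, v, hvP, hle, rfl⟩ := hcover V hV
    have hne := (hΦ 𝔭 P (hP.2 𝔭 (Finset.mem_univ _))).2 v hvP hle i j hij
    obtain ⟨α, β, rfl⟩ := Submodule.mem_span_pair.1 hs
    simp only [IsRoot, eval_add, eval_smul, smul_eq_mul] at hsi hsj
    have hα : α = 0 := (mul_eq_zero.1 (by linear_combination (GG v).eval (P i) * hsj - (GG v).eval (P j) * hsi :
      α * ((GG v).eval (P i) * (FF v).eval (P j) - (GG v).eval (P j) * (FF v).eval (P i)) = 0)).resolve_right
        (sub_ne_zero.2 hne)
    have hβ : β = 0 := (mul_eq_zero.1 (by linear_combination (FF v).eval (P j) * hsi - (FF v).eval (P i) * hsj :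
      β * ((GG v).eval (P i) * (FF v).eval (P j) - (GG v).eval (P j) * (FF v).eval (P i)) = 0)).resolve_right
        (sub_ne_zero.2 hne)
    simp [hα, hβ]

end GrothLib.RamFin10
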